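import Mathlib
import Cfsg.Agent.Lib.Pearl.SelfCentralizing
import Cfsg.Agent.Lib.PGroup.MaximalClass

/-!
# Three-local recognition of the alternating group of degree eight: general lemmas
-/

set_option autoImplicit false

open scoped Pointwise

namespace Cfsg.Agent.EightLocal

variable {G : Type*} [Group G] [Finite G]

/-- If a Sylow 3-subgroup `D` of order nine is self-centralizing, centralizers of involutions have
no subgroup of order nine. -/
theorem not_nine_dvd (P : Sylow 3 G) {D : Subgroup G} (hDP : D = P) (hcard : Nat.card D = 9)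
    (hC : Subgroup.centralizer (D : Set G) = D) {s : G} (hs : orderOf s = 2) (X : Subgroup G)
    (hX : ∀ x ∈ X, Commute x s) : ¬ 9 ∣ Nat.card X := by
  haveI : Fact (Nat.Prime 3) := ⟨Nat.prime_three⟩
  intro h9
  obtain ⟨Q, hQ⟩ := Sylow.exists_subgroup_card_pow_prime 3 (n := 2) (show 3 ^ 2 ∣ Nat.card X by simpa using h9)
  have hQ' : Nat.card (Q.map X.subtype) = 3 ^ 2 := by
    rw [Subgroup.card_map_of_injective X.subtype_injective, hQ]
  obtain ⟨R, hR⟩ := (IsPGroup.of_card hQ').exists_le_sylow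
  obtain ⟨g, hg⟩ := MulAction.exists_smul_eq G R P
  have hRc : Nat.card (R : Subgroup G) = 9 := by
    rw [Sylow.card_eq_multiplicity, ← Sylow.card_eq_multiplicity P, ← hDP, hcard]
  have hRQ : Q.map X.subtype = (R : Subgroup G) :=
    Subgroup.eq_of_le_of_card_ge hR (by rw [hRc, hQ']; norm_num)
  have hmem : g * s * g⁻¹ ∈ Subgroup.centralizer (D : Set G) := by
    rw [Subgroup.mem_centralizer_iff]
    intro d hd
    have hd' : g⁻¹ * d * g ∈ (R : Subgroup G) := by
      rw [hDP, ← hg] at hd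
      have hd2 : d ∈ MulAut.conj g • (R : Subgroup G) := hd
      rw [Subgroup.mem_pointwise_smul_iff_inv_smul_mem] at hd2
      simpa [MulAut.smul_def] using hd2
    rw [← hRQ] at hd'
    obtain ⟨q, -, hq⟩ := hd'
    have hcq : g⁻¹ * d * g * s = s * (g⁻¹ * d * g) := hq ▸ hX _ q.2
    calc d * (g * s * g⁻¹) = g * (g⁻¹ * d * g * s) * g⁻¹ := by group
      _ = g * (s * (g⁻¹ * d * g)) * g⁻¹ := by rw [hcq]
      _ = g * s * g⁻¹ * d := by group
  rw [hC] at hmem
  have h2 := orderOf_dvd_natCard (⟨_, hmem⟩ : D)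
  rw [Subgroup.orderOf_mk, hcard, ← MulAut.conj_apply, MulEquiv.orderOf_eq, hs] at h2
  norm_num at h2

/-- If `9 ∤ |X|`, any two subgroups of order three of `X` are conjugate in `X`. -/
theorem three_conj {X : Subgroup G} (h9 : ¬ 9 ∣ Nat.card X) {a b : G} (ha : a ∈ X) (hb : b ∈ X)
    (oa : orderOf a = 3) (ob : orderOf b = 3) :
    ∃ h ∈ X, h * a * h⁻¹ = b ∨ h * a * h⁻¹ = b⁻¹ := by
  haveI : Fact (Nat.Prime 3) := ⟨Nat.prime_three⟩
  have mk : ∀ c : G, ∀ hc : c ∈ X, orderOf c = 3 →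
      ∃ S : Sylow 3 X, (S : Subgroup X) = Subgroup.zpowers ⟨c, hc⟩ := by
    intro c hc oc
    have hz : Nat.card (Subgroup.zpowers (⟨c, hc⟩ : X)) = 3 ^ 1 := by
      rw [Nat.card_zpowers, Subgroup.orderOf_mk, oc, pow_one]
    refine ⟨(IsPGroup.of_card hz).toSylow ?_, rfl⟩
    intro h
    apply h9
    rw [← Subgroup.card_mul_index (Subgroup.zpowers (⟨c, hc⟩ : X)), hz]
    exact mul_dvd_mul (dvd_refl 3) h
  obtain ⟨S, hS⟩ := mk a ha oa
  obtain ⟨S', hS'⟩ := mk b hb ob
  obtain ⟨g, hg⟩ := MulAction.exists_smul_eq X S S'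
  have hm : g * ⟨a, ha⟩ * g⁻¹ ∈ Subgroup.zpowers (⟨b, hb⟩ : X) := by
    rw [← hS', ← hg, Sylow.coe_subgroup_smul, Subgroup.mem_pointwise_smul_iff_inv_smul_mem]
    simp [MulAut.smul_def, hS, mul_assoc]
  obtain ⟨k, hk⟩ := Subgroup.mem_zpowers_iff.1 hm
  have hk' : b ^ k = g.1 * a * (g.1)⁻¹ := by simpa using congrArg Subtype.val hk
  refine ⟨g, g.2, ?_⟩
  rw [← zpow_mod_orderOf, ob] at hk'
  have h1 := Int.emod_nonneg k (show (3 : ℤ) ≠ 0 by norm_num)
  have h2 := Int.emod_lt_of_pos k (show (0 : ℤ) < 3 by norm_num)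
  have hcases : k % ((3 : ℕ) : ℤ) = 0 ∨ k % ((3 : ℕ) : ℤ) = 1 ∨ k % ((3 : ℕ) : ℤ) = 2 := by omega
  rcases hcases with h | h | h <;> rw [h] at hk'
  · exfalso
    rw [zpow_zero] at hk'
    have : a = 1 := conj_eq_one_iff.1 hk'.symm
    rw [this, orderOf_one] at oa
    omega
  · exact Or.inl (by rw [← hk', zpow_one])
  · refine Or.inr (hk'.symm.trans ?_)
    rw [show (2 : ℤ) = ((2 : ℕ) : ℤ) by rfl, zpow_natCast]
    refine eq_inv_of_mul_eq_one_left ?_
    rw [← pow_succ]
    exact orderOf_dvd_iff_pow_eq_one.1 (by rw [ob])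

/-- A normal 3-complement, elementwise. -/
theorem three_complement (C : Subgroup G) {w : G} (hw : orderOf w = 3) (hwC : w ∈ C)
    (h9 : ¬ 9 ∣ Nat.card C)
    (hN : ∀ x ∈ C, (x * w * x⁻¹ = w ∨ x * w * x⁻¹ = w⁻¹) → x * w = w * x) :
    ∃ O : Subgroup G, (∀ x, x ∈ O ↔ x ∈ C ∧ ¬ 3 ∣ orderOf x) ∧ ¬ 3 ∣ Nat.card O ∧
      ∀ x ∈ C, ∃ o ∈ O, ∃ i : ℤ, x = o * w ^ i := by
  haveI : Fact (Nat.Prime 3) := ⟨Nat.prime_three⟩
  set w' : C := ⟨w, hwC⟩ with hw'
  have hz : Nat.card (Subgroup.zpowers w') = 3 ^ 1 := by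
    rw [Nat.card_zpowers, hw', Subgroup.orderOf_mk, hw, pow_one]
  have hidx : ¬ 3 ∣ (Subgroup.zpowers w').index := by
    intro h
    apply h9
    rw [← Subgroup.card_mul_index (Subgroup.zpowers w'), hz]
    exact mul_dvd_mul (dvd_refl 3) h
  let S : Sylow 3 C := (IsPGroup.of_card hz).toSylow hidx
  have hS : (S : Subgroup C) = Subgroup.zpowers w' := rfl
  have hB : Subgroup.normalizer ((S : Subgroup C) : Set C) ≤
      Subgroup.centralizer ((S : Subgroup C) : Set C) := by
    intro x hx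
    rw [hS] at hx ⊢
    have h1 := (Subgroup.mem_normalizer_iff.1 hx w').1 (Subgroup.mem_zpowers w')
    obtain ⟨k, hk⟩ := Subgroup.mem_zpowers_iff.1 h1
    have hk' : w ^ k = x.1 * w * (x.1)⁻¹ := by simpa [hw'] using congrArg Subtype.val hk
    have hcomm : x.1 * w = w * x.1 := by
      refine hN x x.2 ?_
      rw [← zpow_mod_orderOf, hw] at hk'
      have hcases : k % ((3 : ℕ) : ℤ) = 0 ∨ k % ((3 : ℕ) : ℤ) = 1 ∨ k % ((3 : ℕ) : ℤ) = 2 := by omega
      rcases hcases with h | h | h <;> rw [h] at hk'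
      · exfalso
        rw [zpow_zero] at hk'
        have h0 : w = 1 := conj_eq_one_iff.1 hk'.symm
        rw [h0, orderOf_one] at hw
        omega
      · exact Or.inl (by rw [← hk', zpow_one])
      · refine Or.inr (hk'.symm.trans ?_)
        rw [show (2 : ℤ) = ((2 : ℕ) : ℤ) by rfl, zpow_natCast]
        refine eq_inv_of_mul_eq_one_left ?_
        rw [← pow_succ]
        exact orderOf_dvd_iff_pow_eq_one.1 (by rw [hw])
    rw [Subgroup.mem_centralizer_iff]
    intro y hy
    obtain ⟨i, rfl⟩ := Subgroup.mem_zpowers_iff.1 hy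
    have hc : Commute x w' := Subtype.ext hcomm
    exact (hc.zpow_right i).eq.symm
  have hcomp := MonoidHom.ker_transferSylow_isComplement' S hB
  set K := (MonoidHom.transferSylow S hB).ker with hK
  have hKi : K.index = 3 := by
    rw [hcomp.symm.index_eq_card, hS, hz, pow_one]
  refine ⟨K.map C.subtype, fun x => ⟨?_, ?_⟩, ?_, ?_⟩
  · rintro ⟨k, hk, rfl⟩
    refine ⟨k.2, fun h => MonoidHom.not_dvd_card_ker_transferSylow S hB ?_⟩
    refine h.trans ?_
    rw [Subgroup.coe_subtype, Subgroup.orderOf_coe, ← Subgroup.orderOf_mk k hk]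
    exact orderOf_dvd_natCard _
  · rintro ⟨hx, h3⟩
    refine ⟨⟨x, hx⟩, ?_, rfl⟩
    have h1 : orderOf (QuotientGroup.mk (s := K) (⟨x, hx⟩ : C)) ∣ 3 := by
      refine (orderOf_dvd_natCard _).trans (dvd_of_eq ?_)
      rw [← Subgroup.index_eq_card, hKi]
    have h2 : orderOf (QuotientGroup.mk (s := K) (⟨x, hx⟩ : C)) ∣ orderOf x := by
      rw [← Subgroup.orderOf_mk x hx]
      exact orderOf_map_dvd (QuotientGroup.mk' K) _
    rcases Nat.prime_three.eq_one_or_self_of_dvd _ h1 with h | h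
    · exact (QuotientGroup.eq_one_iff _).1 (orderOf_eq_one_iff.1 h)
    · exact absurd (h ▸ h2) h3
  · rw [Subgroup.card_map_of_injective C.subtype_injective]
    exact MonoidHom.not_dvd_card_ker_transferSylow S hB
  · intro x hx
    obtain ⟨⟨o, p⟩, hop⟩ := hcomp.2 ⟨x, hx⟩
    have hp : (p : C) ∈ Subgroup.zpowers w' := hS ▸ p.2
    obtain ⟨i, hi⟩ := Subgroup.mem_zpowers_iff.1 hp
    refine ⟨(o : C).1, ⟨o, o.2, rfl⟩, i, ?_⟩
    have := congrArg Subtype.val hop
    simp only [Subgroup.coe_mul] at this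
    rw [← this, ← hi]
    simp [hw']

/-- A self-centralizing four subgroup of a larger 2-group gives a maximal subgroup all of whose
involutions are conjugate into the four subgroup. -/
theorem exists_index_two_of_four {T : Type*} [Group T] [Finite T] (hT : IsPGroup 2 T)
    (V : Subgroup T) (hV : Nat.card V = 4) (hexp : ∀ v ∈ V, v * v = 1)
    (hC : Subgroup.centralizer (V : Set T) ≤ V) (hne : V ≠ ⊤) :
    ∃ M : Subgroup T, M.index = 2 ∧
      ∀ u ∈ M, u * u = 1 → ∃ g : T, g * u * g⁻¹ ∈ V := by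
  haveI : Fact (Nat.Prime 2) := ⟨Nat.prime_two⟩
  have hVc : ∀ a ∈ V, ∀ b ∈ V, a * b = b * a := fun a ha b hb => by
    have h1 := inv_eq_of_mul_eq_one_right (hexp _ (mul_mem ha hb))
    rw [mul_inv_rev, inv_eq_of_mul_eq_one_right (hexp a ha), inv_eq_of_mul_eq_one_right (hexp b hb)] at h1
    exact h1.symm
  obtain ⟨σ, hσV, hσZ⟩ : ∃ σ ∈ V, σ ∉ Subgroup.center T := by
    by_contra h
    push Not at h
    exact hne (top_le_iff.mp fun g _ => hC (Subgroup.mem_centralizer_iff.mpr fun e he =>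
      (Subgroup.mem_center_iff.mp (h e he) g).symm))
  have hCσ : Subgroup.centralizer {σ} = V := le_antisymm
    (Pearl.centralizer_singleton_le hT (by rw [hV]; norm_num) hC hσV hσZ)
    (fun v hv => Subgroup.mem_centralizer_singleton_iff.2 (hVc v hv σ hσV))
  have hσ1 : σ ≠ 1 := fun h => hσZ (h ▸ one_mem _)
  have hncyc : ¬ IsCyclic T := by
    intro h
    haveI := h
    haveI : IsCyclic V := Subgroup.isCyclic V
    obtain ⟨v, hv⟩ := IsCyclic.exists_generator (α := V)
    have h4 : orderOf v = 4 := by rw [orderOf_eq_card_of_forall_mem_zpowers hv, hV]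
    have h2 : orderOf v ∣ 2 := orderOf_dvd_of_pow_eq_one (by rw [sq]; exact Subtype.ext (hexp _ v.2))
    rw [h4] at h2
    norm_num at h2
  have hidx : 4 ≤ (commutator T).index := by
    simpa using PGroup.sq_le_index_commutator hT hncyc
  have hmem : ∀ g : T, g * σ * g⁻¹ * σ⁻¹ ∈ commutator T := fun g =>
    Subgroup.commutator_mem_commutator (Subgroup.mem_top g) (Subgroup.mem_top σ)
  let F : T ⧸ Subgroup.centralizer {σ} → commutator T :=
    Quotient.lift (fun g => ⟨g * σ * g⁻¹ * σ⁻¹, hmem g⟩) (by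
      intro a b hab
      have h := QuotientGroup.leftRel_apply.1 hab
      rw [Subgroup.mem_centralizer_singleton_iff] at h
      apply Subtype.ext
      show a * σ * a⁻¹ * σ⁻¹ = b * σ * b⁻¹ * σ⁻¹
      congr 1
      calc a * σ * a⁻¹ = a * (σ * (a⁻¹ * b)) * b⁻¹ := by group
        _ = a * (a⁻¹ * b * σ) * b⁻¹ := by rw [h]
        _ = b * σ * b⁻¹ := by group)
  have hFi : Function.Injective F := by
    rintro ⟨a⟩ ⟨b⟩ h
    have h' : a * σ * a⁻¹ = b * σ * b⁻¹ := mul_right_cancel (congrArg Subtype.val h)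
    refine Quotient.sound (QuotientGroup.leftRel_apply.2 ?_)
    rw [Subgroup.mem_centralizer_singleton_iff]
    calc a⁻¹ * b * σ = a⁻¹ * (b * σ * b⁻¹) * b := by group
      _ = a⁻¹ * (a * σ * a⁻¹) * b := by rw [h']
      _ = σ * (a⁻¹ * b) := by group
  have e1 := Subgroup.card_mul_index (Subgroup.centralizer {σ})
  rw [hCσ, hV] at e1
  have e2 := Subgroup.card_mul_index (commutator T)
  have hQ : Nat.card (T ⧸ Subgroup.centralizer {σ}) = V.index := by rw [hCσ]; rfl
  have hle := Nat.card_le_card_of_injective F hFi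
  have hge : Nat.card (commutator T) ≤ Nat.card (T ⧸ Subgroup.centralizer {σ}) := by
    rw [hQ]; nlinarith
  have hcardc : Nat.card (commutator T) = V.index := by rw [← hQ]; omega
  have hFs : Function.Surjective F :=
    ((Nat.bijective_iff_injective_and_card F).2 ⟨hFi, by omega⟩).2
  have hsurj : ∀ c ∈ commutator T, ∃ g : T, g * σ * g⁻¹ = c * σ := by
    intro c hc
    obtain ⟨⟨g⟩, hg⟩ := hFs ⟨c, hc⟩
    have hg' : g * σ * g⁻¹ * σ⁻¹ = c := congrArg Subtype.val hg
    exact ⟨g, by rw [← hg']; group⟩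
  have hσn : σ ∉ commutator T := by
    intro h
    obtain ⟨g, hg⟩ := hsurj σ⁻¹ (inv_mem h)
    rw [inv_mul_cancel, conj_eq_one_iff] at hg
    exact hσ1 hg
  let f := QuotientGroup.mk' (commutator T)
  have hfσ : f σ ≠ 1 := fun h => hσn ((QuotientGroup.eq_one_iff _).1 h)
  have hfσ2 : (f σ) ^ 2 = 1 := by rw [sq, ← map_mul, hexp σ hσV, map_one]
  have ho : orderOf (f σ) = 2 := orderOf_eq_prime hfσ2 hfσ
  refine ⟨(Subgroup.zpowers (f σ)).comap f, ?_, ?_⟩
  · rw [Subgroup.index_comap_of_surjective _ (QuotientGroup.mk'_surjective _)]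
    have h := Subgroup.card_mul_index (Subgroup.zpowers (f σ))
    rw [Nat.card_zpowers, ho] at h
    have h' : Nat.card (T ⧸ commutator T) = (commutator T).index := rfl
    have hpos : 0 < Nat.card (commutator T) := Nat.card_pos
    rw [hcardc] at e2 hpos
    nlinarith
  · intro u hu huu
    classical
    rw [Subgroup.mem_comap, mem_zpowers_iff_mem_range_orderOf, ho] at hu
    simp only [Finset.mem_image, Finset.mem_range] at hu
    obtain ⟨i, hi, hu⟩ := hu
    have hσi : σ⁻¹ = σ := inv_eq_of_mul_eq_one_right (hexp σ hσV)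
    interval_cases i
    · rw [pow_zero] at hu
      have hc : u ∈ commutator T := (QuotientGroup.eq_one_iff _).1 hu.symm
      obtain ⟨g, hg⟩ := hsurj u hc
      refine ⟨1, ?_⟩
      have h1 : (u * σ) * (u * σ) = 1 := by
        rw [← hg]
        calc g * σ * g⁻¹ * (g * σ * g⁻¹) = g * (σ * σ) * g⁻¹ := by group
          _ = 1 := by rw [hexp σ hσV]; group
      have h2 := inv_eq_of_mul_eq_one_right h1
      rw [mul_inv_rev, hσi, inv_eq_of_mul_eq_one_right huu] at h2
      rw [one_mul, inv_one, mul_one, ← hCσ, Subgroup.mem_centralizer_singleton_iff]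
      exact h2.symm
    · rw [pow_one] at hu
      have hc : u * σ⁻¹ ∈ commutator T :=
        (QuotientGroup.eq_one_iff _).1 (show f (u * σ⁻¹) = 1 by rw [map_mul, map_inv, ← hu, mul_inv_cancel])
      obtain ⟨g, hg⟩ := hsurj _ hc
      rw [inv_mul_cancel_right] at hg
      refine ⟨g⁻¹, ?_⟩
      rw [← hg]
      simpa [mul_assoc] using hσV

/-- An element of order three acting without fixed points on a group leaves its order `1 mod 3`. -/
theorem card_mod_three {N : Subgroup G} [N.Normal] {y : G} (hy : orderOf y = 3)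
    (hfix : ∀ n ∈ N, n * y = y * n → n = 1) : Nat.card N % 3 = 1 := by
  haveI : Fact (Nat.Prime 3) := ⟨Nat.prime_three⟩
  letI : MulAction (Subgroup.zpowers y) N :=
    MulAction.compHom N ((MulAut.conjNormal (H := N)).comp (Subgroup.zpowers y).subtype)
  have hp : IsPGroup 3 (Subgroup.zpowers y) := IsPGroup.of_card (n := 1) (by rw [Nat.card_zpowers, hy, pow_one])
  have h := hp.card_modEq_card_fixedPoints N
  have h1 : MulAction.fixedPoints (Subgroup.zpowers y) N = {1} := by
    ext n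
    constructor
    · intro hn
      have := congrArg Subtype.val (hn ⟨y, Subgroup.mem_zpowers y⟩)
      change y * n.1 * y⁻¹ = n.1 at this
      refine Subtype.ext (hfix n.1 n.2 ?_)
      calc n.1 * y = y * n.1 * y⁻¹ * y := by rw [this]
        _ = y * n.1 := by group
    · rintro rfl g
      apply Subtype.ext
      show g.1 * 1 * (g.1)⁻¹ = 1
      group
  rw [h1, Nat.card_coe_set_eq, Set.ncard_singleton] at h
  exact h

end Cfsg.Agent.EightLocal
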