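import Mathlib

/-!
# The group `(Sym 3 × Sym 5)⁺`
-/

set_option autoImplicit false

namespace Cfsg.Agent.EightLocal

open Equiv

/-- The pairs of permutations of equal sign. -/
abbrev Kp : Subgroup (Perm (Fin 3) × Perm (Fin 5)) :=
  (((Equiv.Perm.sign).comp (MonoidHom.fst (Equiv.Perm (Fin 3)) (Equiv.Perm (Fin 5)))) *
    ((Equiv.Perm.sign).comp (MonoidHom.snd (Equiv.Perm (Fin 3)) (Equiv.Perm (Fin 5))))).ker

/-- a shortcut instance -/
instance instDecidableEqKp : DecidableEq Kp := inferInstance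

/-- a shortcut instance -/
instance instFintypeKp : Fintype Kp := inferInstance

set_option synthInstance.maxHeartbeats 200000
set_option synthInstance.maxSize 1024

/-- the three-cycle `(0 1 2)` on three points -/
abbrev c3 : Perm (Fin 3) := c[0, 1, 2]
/-- the three-cycle `(2 3 4)` on five points -/
abbrev c5 : Perm (Fin 5) := c[2, 3, 4]

def zK : Kp := ⟨(c3, 1), by decide +kernel⟩
def wK : Kp := ⟨(1, c5), by decide +kernel⟩
def rK : Kp := ⟨(1, c[0, 1] * c[2, 3]), by decide +kernel⟩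
def x3K : Kp := ⟨(c[0, 1], c[0, 1]), by decide +kernel⟩
def x4K : Kp := ⟨(c[0, 1], c[1, 2]), by decide +kernel⟩
def x5K : Kp := ⟨(c[0, 1], c[2, 3]), by decide +kernel⟩
def x6K : Kp := ⟨(c[0, 1], c[3, 4]), by decide +kernel⟩
def j1K : Kp := ⟨(1, c[0, 2] * c[1, 3]), by decide +kernel⟩

/-- the elements of the Sylow 3-subgroup -/
def dK (i k : Fin 3) : Kp := zK ^ (i : ℕ) * wK ^ (k : ℕ)

/-- the elements normalizing the Sylow 3-subgroup -/
def nK (x : Fin 3 × Fin 3 × Fin 2 × Fin 2) : Kp :=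
  dK x.1 x.2.1 * x3K ^ (x.2.2.1 : ℕ) * rK ^ (x.2.2.2 : ℕ)

instance : Kp.Normal := MonoidHom.normal_ker _

/-- conjugation by a permutation of the five points -/
def kconj (π : Perm (Fin 5)) : Kp →* Kp := (MulAut.conjNormal (H := Kp) (1, π)).toMonoidHom

theorem kconj_injective (π : Perm (Fin 5)) : Function.Injective (kconj π) :=
  (MulAut.conjNormal (H := Kp) (1, π)).injective

theorem kconj_surjective (π : Perm (Fin 5)) : Function.Surjective (kconj π) :=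
  (MulAut.conjNormal (H := Kp) (1, π)).surjective

theorem kconj_val (π : Perm (Fin 5)) (k : Kp) :
    ((kconj π k : Kp) : Perm (Fin 3) × Perm (Fin 5)) = (k.1.1, π * k.1.2 * π⁻¹) := by
  simp [kconj, MulAut.conjNormal_apply, Prod.ext_iff]

theorem kconj_zK (π : Perm (Fin 5)) : kconj π zK = zK := by
  apply Subtype.ext
  rw [kconj_val]
  simp [zK]

theorem exists_conj_c5 : ∀ b : Perm (Fin 5), b ^ 3 = 1 → b ≠ 1 →
    ∃ π : Perm (Fin 5), π * c5 * π⁻¹ = b := by decide +kernel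

theorem zK_of_line : ∀ k : Kp, k ^ 3 = 1 → k ≠ 1 →
    ((⟨(1, c[0, 1, 2, 3, 4]), by decide +kernel⟩ : Kp) * k *
        (⟨(1, c[0, 1, 2, 3, 4]), by decide +kernel⟩ : Kp)⁻¹ = k ∨
      (⟨(1, c[0, 1, 2, 3, 4]), by decide +kernel⟩ : Kp) * k *
        (⟨(1, c[0, 1, 2, 3, 4]), by decide +kernel⟩ : Kp)⁻¹ = k⁻¹) →
    k = zK ∨ k = zK⁻¹ := by decide +kernel

theorem x3K_zK : x3K * zK * x3K⁻¹ = zK⁻¹ := by decide +kernel
theorem x3K_wK : x3K * wK * x3K⁻¹ = wK := by decide +kernel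
theorem rK_zK : rK * zK * rK⁻¹ = zK := by decide +kernel
theorem rK_wK : rK * wK * rK⁻¹ = wK⁻¹ := by decide +kernel

theorem commute_cases : ∀ k : Kp, k ^ 3 = 1 → k * zK = zK * k →
    ((∃ i : Fin 3, k.1.1 = c3 ^ (i : ℕ)) ∧ k.1.2 ^ 3 = 1) := by decide +kernel

theorem line_iff : ∀ k : Kp, ((k * zK * k⁻¹ = zK ∨ k * zK * k⁻¹ = zK⁻¹)) := by decide +kernel

theorem nK_iff : ∀ k : Kp,
    ((∀ i j : Fin 3, ∃ i' j' : Fin 3, k * dK i j * k⁻¹ = dK i' j') ↔ ∃ x, k = nK x) := by decide +kernel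

theorem nK_injective : Function.Injective nK := by decide +kernel

theorem dK_injective : Function.Injective (fun p : Fin 3 × Fin 3 => dK p.1 p.2) := by decide +kernel

theorem dK_eq_line (i k : Fin 3) : (i = 0 ∨ k = 0 ∨
    ¬(rK * dK i k * rK⁻¹ = dK i k ∨ rK * dK i k * rK⁻¹ = (dK i k)⁻¹)) := by
  revert i k
  decide +kernel

theorem mixed_conj : ∀ i k i' k' : Fin 3, i ≠ 0 → k ≠ 0 → i' ≠ 0 → k' ≠ 0 →
    ∃ p q : Fin 2, x3K ^ (p : ℕ) * rK ^ (q : ℕ) * dK i k * (x3K ^ (p : ℕ) * rK ^ (q : ℕ))⁻¹ = dK i' k' := by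
  decide +kernel

theorem x3_adjust : ∀ k : Kp, k * zK = zK * k → k * k = 1 → k * wK * k⁻¹ = wK⁻¹ →
    ∃ m : Fin 3, k = wK ^ (m : ℕ) * rK * (wK ^ (m : ℕ))⁻¹ := by decide +kernel

theorem dK_zero : ∀ i : Fin 3, dK i 0 = 1 ∨ dK i 0 = zK ∨ dK i 0 = zK⁻¹ := by decide +kernel
theorem dK_zero' : ∀ k : Fin 3, dK 0 k = 1 ∨ dK 0 k = wK ∨ dK 0 k = wK⁻¹ := by decide +kernel

theorem zK_pow_three : zK ^ 3 = 1 := by decide +kernel
theorem wK_pow_three : wK ^ 3 = 1 := by decide +kernel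
theorem zK_ne_one : zK ≠ 1 := by decide +kernel
theorem wK_ne_one : wK ≠ 1 := by decide +kernel

end Cfsg.Agent.EightLocal
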