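import Mathlib
import Cfsg.Agent.Lib.EightLocal.Basic
import Cfsg.Agent.Lib.EightLocal.Kp

/-!
# The normalised three-local configuration
-/

set_option autoImplicit false

namespace Cfsg.Agent.EightLocal

open Equiv

universe u

section

variable {G : Type u} [Group G] [Finite G]

theorem mem_zpowers_three {a x : G} (ha : a ^ 3 = 1) :
    x ∈ Subgroup.zpowers a ↔ x = 1 ∨ x = a ∨ x = a⁻¹ := by
  constructor
  · intro hx
    obtain ⟨n, rfl⟩ := Subgroup.mem_zpowers_iff.1 hx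
    have h3 : a ^ (3 : ℤ) = 1 := by rw [show (3 : ℤ) = ((3 : ℕ) : ℤ) from rfl, zpow_natCast, ha]
    rw [← Int.emod_add_mul_ediv n 3, zpow_add, zpow_mul, h3, one_zpow, mul_one]
    have hcases : n % 3 = 0 ∨ n % 3 = 1 ∨ n % 3 = 2 := by omega
    rcases hcases with h | h | h <;> rw [h]
    · exact Or.inl (zpow_zero a)
    · exact Or.inr (Or.inl (zpow_one a))
    · refine Or.inr (Or.inr (eq_inv_of_mul_eq_one_left ?_))
      rw [show a ^ (2 : ℤ) * a = a ^ ((2 : ℤ) + 1) from (zpow_add_one a 2).symm]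
      exact h3
  · rintro (rfl | rfl | rfl)
    · exact one_mem _
    · exact Subgroup.mem_zpowers _
    · exact inv_mem (Subgroup.mem_zpowers _)

theorem mem_normalizer_of_conj_mem {H : Subgroup G} {x : G} (h : ∀ d ∈ H, x * d * x⁻¹ ∈ H) :
    x ∈ Subgroup.normalizer (H : Set G) := by
  rw [Subgroup.mem_normalizer_iff]
  intro d
  refine ⟨h d, fun hd => ?_⟩
  let f : H → H := fun e => ⟨x * e.1 * x⁻¹, h e.1 e.2⟩
  have hf : Function.Injective f := fun a b hab => by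
    have := congrArg Subtype.val hab
    exact Subtype.ext (mul_left_cancel (mul_right_cancel this))
  obtain ⟨⟨e, he⟩, hfe⟩ := (Finite.injective_iff_surjective.1 hf) ⟨_, hd⟩
  have h2 : x * e * x⁻¹ = x * d * x⁻¹ := congrArg Subtype.val hfe
  rw [← mul_left_cancel (mul_right_cancel h2)]
  exact he

theorem mem_normalizer_line {a : G} (ha : a ^ 3 = 1) (ha1 : a ≠ 1) (x : G) :
    x ∈ Subgroup.normalizer (Subgroup.zpowers a : Set G) ↔ x * a * x⁻¹ = a ∨ x * a * x⁻¹ = a⁻¹ := by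
  constructor
  · intro hx
    have h := (Subgroup.mem_normalizer_iff.1 hx a).1 (Subgroup.mem_zpowers a)
    rcases (mem_zpowers_three ha).1 h with h | h | h
    · exact absurd (conj_eq_one_iff.1 h) ha1
    · exact Or.inl h
    · exact Or.inr h
  · intro h
    refine mem_normalizer_of_conj_mem fun d hd => ?_
    rcases (mem_zpowers_three ha).1 hd with rfl | rfl | rfl
    · simp
    · rcases h with h | h <;> rw [h]
      · exact Subgroup.mem_zpowers _
      · exact inv_mem (Subgroup.mem_zpowers _)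
    · rw [← conj_inv]
      rcases h with h | h <;> rw [h]
      · exact inv_mem (Subgroup.mem_zpowers _)
      · simp

end

/-- The normalised three-local configuration. -/
structure Data (G : Type u) [Group G] [Finite G] where
  /-- the Sylow 3-subgroup -/
  D : Subgroup G
  /-- the Sylow 3-subgroup, bundled -/
  P : Sylow 3 G
  hDP : D = P
  hcard : Nat.card D = 9
  hC : Subgroup.centralizer (D : Set G) = D
  /-- the normaliser of the line of `z` -/
  ι : Kp →* G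
  inj : Function.Injective ι
  range_iff : ∀ x : G, x ∈ ι.range ↔ (x * ι zK * x⁻¹ = ι zK ∨ x * ι zK * x⁻¹ = (ι zK)⁻¹)
  mem_D : ∀ x : G, x ∈ D ↔ ∃ i k : Fin 3, x = ι (dK i k)
  /-- an element exchanging the two lines -/
  g : G
  g_z : g * ι zK * g⁻¹ = ι wK
  g_w : g * ι wK * g⁻¹ = ι zK
  g_r : g * ι rK * g⁻¹ = ι x3K
  card_C_z : Nat.card (Subgroup.centralizer ({ι zK} : Set G)) = 180
  mixed : ∀ i k : Fin 3, i ≠ 0 → k ≠ 0 →
    Nat.card (Subgroup.centralizer ({ι (dK i k)} : Set G)) = 18 ∧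
    Subgroup.centralizer ({ι (dK i k)} : Set G) ≤ Subgroup.normalizer (D : Set G)

theorem card_centralizer_conj {G : Type u} [Group G] (x a : G) :
    Nat.card (Subgroup.centralizer ({x * a * x⁻¹} : Set G)) =
      Nat.card (Subgroup.centralizer ({a} : Set G)) := by
  refine Nat.card_congr ((MulAut.conj x⁻¹).toEquiv.subtypeEquiv fun c => ?_)
  rw [Subgroup.mem_centralizer_singleton_iff, Subgroup.mem_centralizer_singleton_iff]
  show _ ↔ x⁻¹ * c * x⁻¹⁻¹ * a = a * (x⁻¹ * c * x⁻¹⁻¹)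
  constructor
  · intro h
    calc x⁻¹ * c * x⁻¹⁻¹ * a = x⁻¹ * (c * (x * a * x⁻¹)) * x := by group
      _ = x⁻¹ * (x * a * x⁻¹ * c) * x := by rw [h]
      _ = _ := by group
  · intro h
    calc c * (x * a * x⁻¹) = x * (x⁻¹ * c * x⁻¹⁻¹ * a) * x⁻¹ := by group
      _ = x * (a * (x⁻¹ * c * x⁻¹⁻¹)) * x⁻¹ := by rw [h]
      _ = _ := by group

theorem centralizer_singleton_inv {G : Type u} [Group G] (a : G) :
    Subgroup.centralizer ({a⁻¹} : Set G) = Subgroup.centralizer ({a} : Set G) := by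
  ext c
  rw [Subgroup.mem_centralizer_singleton_iff, Subgroup.mem_centralizer_singleton_iff]
  exact Commute.inv_right_iff (a := c) (b := a)

/-- The hypotheses of the recognition theorem yield a normalised configuration. -/
theorem exists_data {G : Type u} [Group G] [Finite G]
    (P : Sylow 3 G) (D : Subgroup G) (hDP : D = P) (y z : G) (hgen : Subgroup.closure {y, z} = D)
    (hcomm : IsMulCommutative D) (hcard : Nat.card D = 9) (hexp : ∀ a ∈ D, a ^ 3 = 1)
    (hC : Subgroup.centralizer (D : Set G) = D)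
    (hND : Nat.card (Subgroup.normalizer (D : Set G)) = 72)
    (hycard : Nat.card (Subgroup.centralizer ({y} : Set G)) = 18)
    (hyn : (D.subgroupOf (Subgroup.centralizer ({y} : Set G))).Normal)
    (hzcard : Nat.card (Subgroup.centralizer ({z} : Set G)) = 180)
    (eL : Subgroup.normalizer (Subgroup.zpowers z : Set G) ≃* Kp) :
    Nonempty (Data G) := by
  classical
  have hcomm' : ∀ a ∈ D, ∀ b ∈ D, a * b = b * a := fun a ha b hb =>
    congrArg Subtype.val (mul_comm' (⟨a, ha⟩ : D) ⟨b, hb⟩)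
  have hzD : z ∈ D := hgen ▸ Subgroup.subset_closure (by simp)
  have hyD : y ∈ D := hgen ▸ Subgroup.subset_closure (by simp)
  have hz3 : z ^ 3 = 1 := hexp z hzD
  have hDlt : ∀ a ∈ D, Subgroup.zpowers a ≠ D := by
    intro a ha h
    have h2 := Nat.card_zpowers a
    rw [h, hcard] at h2
    have := Nat.le_of_dvd (by norm_num) (orderOf_dvd_of_pow_eq_one (hexp a ha))
    omega
  have hz1 : z ≠ 1 := by
    intro h
    refine hDlt y hyD ?_
    rw [← hgen, h, Subgroup.zpowers_eq_closure]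
    refine le_antisymm (Subgroup.closure_mono (by simp)) ((Subgroup.closure_le _).2 ?_)
    rintro _ (rfl | rfl)
    · exact Subgroup.subset_closure rfl
    · exact one_mem _
  -- the normaliser of `⟨z⟩`
  set N := Subgroup.normalizer (Subgroup.zpowers z : Set G) with hN
  let ι0 : Kp →* G := N.subtype.comp eL.symm.toMonoidHom
  have hι0 : Function.Injective ι0 := N.subtype_injective.comp eL.symm.injective
  have hr0 : ∀ x, x ∈ ι0.range ↔ x ∈ N := fun x =>
    ⟨fun ⟨k, hk⟩ => hk ▸ (eL.symm k).2, fun hx => ⟨eL ⟨x, hx⟩, by simp [ι0]⟩⟩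
  have hcz : ∀ x : G, x * z = z * x → x ∈ N := fun x hx =>
    (mem_normalizer_line hz3 hz1 x).2 (Or.inl (by rw [hx]; group))
  obtain ⟨k0, hk0⟩ := (hr0 z).2 (hcz z rfl)
  have hk03 : k0 ^ 3 = 1 := hι0 (by rw [map_pow, hk0, hz3, map_one])
  have hk01 : k0 ≠ 1 := fun h => hz1 (by rw [← hk0, h, map_one])
  have hline : ∀ k : Kp, k * k0 * k⁻¹ = k0 ∨ k * k0 * k⁻¹ = k0⁻¹ := by
    intro k
    have h := (mem_normalizer_line hz3 hz1 (ι0 k)).1 ((hr0 _).1 ⟨k, rfl⟩)
    rw [← hk0, ← map_inv, ← map_mul, ← map_mul, ← map_inv] at h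
    exact h.imp (fun h => hι0 h) (fun h => hι0 h)
  -- normalise the image of `z`
  obtain ⟨ι1, hι1, hr1, hι1z⟩ : ∃ ι1 : Kp →* G, Function.Injective ι1 ∧
      (∀ x, x ∈ ι1.range ↔ x ∈ N) ∧ ι1 zK = z := by
    rcases zK_of_line k0 hk03 hk01 (hline _) with h | h
    · exact ⟨ι0, hι0, hr0, h ▸ hk0⟩
    · let f : Kp →* Kp := (MulAut.conj x3K).toMonoidHom
      have hf : Function.Bijective f := (MulAut.conj x3K).bijective
      refine ⟨ι0.comp f, hι0.comp hf.1, fun x => ?_, ?_⟩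
      · rw [← hr0, MonoidHom.range_comp, MonoidHom.range_eq_top.2 hf.2, ← MonoidHom.range_eq_map]
      · show ι0 (x3K * zK * x3K⁻¹) = z
        rw [x3K_zK, ← h, hk0]
  -- normalise the Sylow subgroup
  obtain ⟨ky, hky⟩ := (hr1 y).2 (hcz y (hcomm' y hyD z hzD))
  have hky3 : ky ^ 3 = 1 := hι1 (by rw [map_pow, hky, hexp y hyD, map_one])
  have hkyc : ky * zK = zK * ky := hι1 (by rw [map_mul, map_mul, hky, hι1z]; exact hcomm' y hyD z hzD)
  obtain ⟨⟨i0, hi0⟩, hb3⟩ := commute_cases ky hky3 hkyc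
  have hb1 : ky.1.2 ≠ 1 := by
    intro hb
    have : ky = zK ^ (i0 : ℕ) := Subtype.ext (Prod.ext (by simpa [zK] using hi0) (by simp [zK, hb]))
    refine hDlt z hzD ?_
    rw [← hgen, Subgroup.zpowers_eq_closure]
    refine le_antisymm (Subgroup.closure_mono (by simp)) ((Subgroup.closure_le _).2 ?_)
    rintro _ (rfl | rfl)
    · rw [← hky, this, map_pow, hι1z]
      exact pow_mem (Subgroup.subset_closure (by rfl)) _
    · exact Subgroup.subset_closure rfl
  obtain ⟨π, hπ⟩ := exists_conj_c5 _ hb3 hb1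
  let ι : Kp →* G := ι1.comp (kconj π)
  have hι : Function.Injective ι := hι1.comp (kconj_injective π)
  have hr : ∀ x, x ∈ ι.range ↔ x ∈ N := fun x => by
    rw [← hr1, MonoidHom.range_comp, MonoidHom.range_eq_top.2 (kconj_surjective π), ← MonoidHom.range_eq_map]
  have hιz : ι zK = z := by show ι1 (kconj π zK) = z; rw [kconj_zK, hι1z]
  have hy : y = ι (dK i0 1) := by
    show y = ι1 (kconj π (dK i0 1))
    rw [← hky]
    congr 1
    apply Subtype.ext
    rw [kconj_val]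
    simp only [dK, zK, wK]
    simp [Prod.ext_iff, hi0, hπ]
  have hdD : ∀ i k : Fin 3, ι (dK i k) ∈ D := by
    have hwD : ι wK ∈ D := by
      have : ι wK = (z ^ (i0 : ℕ))⁻¹ * y := by
        rw [hy, dK, map_mul, map_pow, map_pow, hιz, inv_mul_cancel_left]
        simp
      rw [this]
      exact mul_mem (inv_mem (pow_mem hzD _)) hyD
    intro i k
    rw [dK, map_mul, map_pow, map_pow, hιz]
    exact mul_mem (pow_mem hzD _) (pow_mem hwD _)
  let e : Fin 3 × Fin 3 → D := fun p => ⟨ι (dK p.1 p.2), hdD _ _⟩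
  have he : Function.Bijective e := (Nat.bijective_iff_injective_and_card e).2
    ⟨fun p q h => dK_injective (hι (congrArg Subtype.val h)), by simp [hcard]⟩
  have hmemD : ∀ x : G, x ∈ D ↔ ∃ i k : Fin 3, x = ι (dK i k) := fun x =>
    ⟨fun hx => by
      obtain ⟨p, hp⟩ := he.2 ⟨x, hx⟩
      exact ⟨p.1, p.2, (congrArg Subtype.val hp).symm⟩, fun ⟨i, k, h⟩ => h ▸ hdD i k⟩
  have hrange : ∀ x : G, x ∈ ι.range ↔ (x * ι zK * x⁻¹ = ι zK ∨ x * ι zK * x⁻¹ = (ι zK)⁻¹) :=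
    fun x => by rw [hr, hιz, hN, mem_normalizer_line hz3 hz1]
  -- the part of `N(D)` in the normaliser of the line
  set ND := Subgroup.normalizer (D : Set G) with hNDdef
  have hHiff : ∀ k : Kp, ι k ∈ ND ↔ ∃ x, k = nK x := by
    intro k
    rw [← nK_iff]
    constructor
    · intro h i j
      obtain ⟨i', j', hij⟩ := (hmemD _).1 ((Subgroup.mem_normalizer_iff.1 h _).1 (hdD i j))
      exact ⟨i', j', hι (by simpa using hij)⟩
    · intro h
      refine mem_normalizer_of_conj_mem fun d hd => ?_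
      obtain ⟨i, j, rfl⟩ := (hmemD d).1 hd
      obtain ⟨i', j', hij⟩ := h i j
      rw [← map_inv, ← map_mul, ← map_mul, hij]
      exact hdD i' j'
  set H := (ι.range).subgroupOf ND with hH
  have hHcard : Nat.card H = 36 := by
    let f : Fin 3 × Fin 3 × Fin 2 × Fin 2 → H := fun x =>
      ⟨⟨ι (nK x), (hHiff _).2 ⟨x, rfl⟩⟩, Subgroup.mem_subgroupOf.2 ⟨_, rfl⟩⟩
    have hf : Function.Bijective f := by
      refine ⟨fun a b h => nK_injective (hι (congrArg (fun u : H => (u.1.1 : G)) h)), fun u => ?_⟩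
      obtain ⟨k, hk⟩ := Subgroup.mem_subgroupOf.1 u.2
      obtain ⟨x, rfl⟩ := (hHiff k).1 (by rw [hk]; exact u.1.2)
      exact ⟨x, Subtype.ext (Subtype.ext hk)⟩
    rw [← Nat.card_eq_of_bijective f hf]
    simp
  have hHi : H.index = 2 := by
    have h := Subgroup.card_mul_index H
    rw [hHcard, hND] at h
    omega
  obtain ⟨h0, hh0⟩ : ∃ h0 : ND, h0 ∉ H := by
    by_contra hall
    push Not at hall
    have : H = ⊤ := eq_top_iff.2 fun x _ => hall x
    rw [this, Subgroup.index_top] at hHi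
    omega
  obtain ⟨i1, k1, hik⟩ := (hmemD _).1 ((Subgroup.mem_normalizer_iff.1 h0.2 _).1 (hzD))
  have hnz : ¬ (h0.1 * z * (h0.1)⁻¹ = z ∨ h0.1 * z * (h0.1)⁻¹ = z⁻¹) := fun h =>
    hh0 (Subgroup.mem_subgroupOf.2 ((hrange _).2 (by rwa [hιz])))
  have hk1 : k1 ≠ 0 := by
    intro h
    rw [h] at hik
    rcases dK_zero i1 with h' | h' | h' <;> rw [h'] at hik
    · rw [map_one] at hik; exact hz1 (conj_eq_one_iff.1 hik)
    · rw [hιz] at hik; exact hnz (Or.inl hik)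
    · rw [map_inv, hιz] at hik; exact hnz (Or.inr hik)
  haveI hHn : H.Normal := Subgroup.normal_of_index_eq_two hHi
  have hrN : ι rK ∈ ND := (hHiff _).2 ⟨(0, 0, 0, 1), by decide +kernel⟩
  have hr' : h0⁻¹ * ⟨ι rK, hrN⟩ * (h0⁻¹)⁻¹ ∈ H :=
    hHn.conj_mem _ (Subgroup.mem_subgroupOf.2 ⟨rK, rfl⟩) _
  have hi1 : i1 = 0 := by
    rcases dK_eq_line i1 k1 with h | h | h
    · exact h
    · exact absurd h hk1
    · exfalso
      apply h
      have h' := (hrange _).1 (Subgroup.mem_subgroupOf.1 hr')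
      rw [hιz] at h'
      simp only [Subgroup.coe_mul, Subgroup.coe_inv, inv_inv] at h'
      have e : ι (rK * dK i1 k1 * rK⁻¹) =
          h0.1 * ((h0.1)⁻¹ * ι rK * h0.1 * z * ((h0.1)⁻¹ * ι rK * h0.1)⁻¹) * (h0.1)⁻¹ := by
        rw [map_mul, map_mul, map_inv, ← hik]
        group
      rcases h' with h' | h' <;> rw [h'] at e
      · exact Or.inl (hι (e.trans hik))
      · refine Or.inr (hι (e.trans ?_))
        rw [map_inv, ← hik]
        group
  subst hi1
  have hw3 : ι wK ^ 3 = 1 := by rw [← map_pow, wK_pow_three, map_one]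
  have hh0z : h0.1 * z * (h0.1)⁻¹ = ι wK ∨ h0.1 * z * (h0.1)⁻¹ = (ι wK)⁻¹ := by
    rcases dK_zero' k1 with h | h | h <;> rw [h] at hik
    · rw [map_one] at hik; exact absurd (conj_eq_one_iff.1 hik) hz1
    · exact Or.inl hik
    · rw [map_inv] at hik; exact Or.inr hik
  have hh0w : h0.1 * ι wK * (h0.1)⁻¹ = z ∨ h0.1 * ι wK * (h0.1)⁻¹ = z⁻¹ := by
    have h2 : h0 * h0 ∈ H := Subgroup.mul_self_mem_of_index_two hHi h0
    have h2' := (hrange _).1 (Subgroup.mem_subgroupOf.1 h2)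
    rw [hιz, Subgroup.coe_mul] at h2'
    have e : h0.1 * (h0.1 * z * (h0.1)⁻¹) * (h0.1)⁻¹ = h0.1 * h0.1 * z * (h0.1 * h0.1)⁻¹ := by group
    rcases hh0z with h | h <;> rw [h] at e
    · rw [← e] at h2'; exact h2'
    · rw [← e, ← conj_inv] at h2'
      rcases h2' with h2' | h2'
      · exact Or.inr (inv_eq_iff_eq_inv.1 h2')
      · exact Or.inl (inv_injective h2')
  have hx3z : ι x3K * z * (ι x3K)⁻¹ = z⁻¹ := by
    rw [← hιz, ← map_inv, ← map_mul, ← map_mul, x3K_zK, map_inv]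
  have hx3w : ι x3K * ι wK * (ι x3K)⁻¹ = ι wK := by
    rw [← map_inv, ← map_mul, ← map_mul, x3K_wK]
  have hrz : ι rK * z * (ι rK)⁻¹ = z := by
    rw [← hιz, ← map_inv, ← map_mul, ← map_mul, rK_zK]
  have hrw : ι rK * ι wK * (ι rK)⁻¹ = (ι wK)⁻¹ := by
    rw [← map_inv, ← map_mul, ← map_mul, rK_wK, map_inv]
  -- an element exchanging `z` and `w`
  obtain ⟨g0, hg0z, hg0w⟩ : ∃ g0 : G, g0 * z * g0⁻¹ = ι wK ∧ g0 * ι wK * g0⁻¹ = z := by
    obtain ⟨g1, hg1z, hg1w⟩ : ∃ g1 : G, g1 * z * g1⁻¹ = ι wK ∧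
        (g1 * ι wK * g1⁻¹ = z ∨ g1 * ι wK * g1⁻¹ = z⁻¹) := by
      rcases hh0z with h | h
      · exact ⟨h0.1, h, hh0w⟩
      · refine ⟨ι rK * h0.1, ?_, ?_⟩
        · calc ι rK * h0.1 * z * (ι rK * h0.1)⁻¹ = ι rK * (h0.1 * z * (h0.1)⁻¹) * (ι rK)⁻¹ := by group
            _ = ι wK := by rw [h, ← conj_inv, hrw, inv_inv]
        · have e : ι rK * h0.1 * ι wK * (ι rK * h0.1)⁻¹ =
              ι rK * (h0.1 * ι wK * (h0.1)⁻¹) * (ι rK)⁻¹ := by group
          rw [e]
          rcases hh0w with h' | h' <;> rw [h']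
          · exact Or.inl hrz
          · rw [← conj_inv, hrz]; exact Or.inr rfl
    rcases hg1w with h | h
    · exact ⟨g1, hg1z, h⟩
    · refine ⟨ι x3K * g1, ?_, ?_⟩
      · calc ι x3K * g1 * z * (ι x3K * g1)⁻¹ = ι x3K * (g1 * z * g1⁻¹) * (ι x3K)⁻¹ := by group
          _ = ι wK := by rw [hg1z, hx3w]
      · calc ι x3K * g1 * ι wK * (ι x3K * g1)⁻¹ = ι x3K * (g1 * ι wK * g1⁻¹) * (ι x3K)⁻¹ := by group
          _ = z := by rw [h, ← conj_inv, hx3z, inv_inv]
  -- fix the exchanged reflection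
  have hx3m : g0⁻¹ * ι x3K * g0 ∈ ι.range := (hrange _).2 (Or.inl (by
    rw [hιz]
    calc g0⁻¹ * ι x3K * g0 * z * (g0⁻¹ * ι x3K * g0)⁻¹
        = g0⁻¹ * (ι x3K * (g0 * z * g0⁻¹) * (ι x3K)⁻¹) * g0 := by group
      _ = g0⁻¹ * (g0 * z * g0⁻¹) * g0 := by rw [hg0z, hx3w]
      _ = z := by group))
  obtain ⟨k2, hk2⟩ := hx3m
  obtain ⟨m, hm⟩ : ∃ m : Fin 3, k2 = wK ^ (m : ℕ) * rK * (wK ^ (m : ℕ))⁻¹ := by
    refine x3_adjust k2 (hι ?_) (hι ?_) (hι ?_)
    · rw [map_mul, map_mul, hk2, hιz]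
      calc g0⁻¹ * ι x3K * g0 * z = g0⁻¹ * (ι x3K * (g0 * z * g0⁻¹) * (ι x3K)⁻¹) * ι x3K * g0 := by group
        _ = g0⁻¹ * (g0 * z * g0⁻¹) * ι x3K * g0 := by rw [hg0z, hx3w]
        _ = z * (g0⁻¹ * ι x3K * g0) := by group
    · rw [map_mul, hk2]
      calc g0⁻¹ * ι x3K * g0 * (g0⁻¹ * ι x3K * g0) = g0⁻¹ * ι (x3K * x3K) * g0 := by rw [map_mul]; group
        _ = _ := by rw [show x3K * x3K = 1 by decide +kernel, map_one]; group
    · rw [map_mul, map_mul, map_inv, map_inv, hk2]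
      calc g0⁻¹ * ι x3K * g0 * ι wK * (g0⁻¹ * ι x3K * g0)⁻¹
          = g0⁻¹ * (ι x3K * (g0 * ι wK * g0⁻¹) * (ι x3K)⁻¹) * g0 := by group
        _ = g0⁻¹ * (g0 * ι wK * g0⁻¹)⁻¹ * g0 := by rw [hg0w, hx3z]
        _ = (ι wK)⁻¹ := by group
  refine ⟨⟨D, P, hDP, hcard, hC, ι, hι, hrange, hmemD, g0 * ι (wK ^ (m : ℕ)), ?_, ?_, ?_, ?_, ?_⟩⟩
  · rw [hιz]
    have hc : Commute (ι (wK ^ (m : ℕ))) z := hcomm' _ (by
      rw [map_pow]; exact pow_mem (by simpa [dK] using hdD 0 1) _) _ hzD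
    rw [mul_inv_rev, mul_assoc g0 _ z, hc.eq]
    rw [← hg0z]
    group
  · rw [hιz, ← hg0w, map_pow]
    group
  · have : g0⁻¹ * ι x3K * g0 = ι (wK ^ (m : ℕ)) * ι rK * (ι (wK ^ (m : ℕ)))⁻¹ := by
      rw [← hk2, hm, map_mul, map_mul, map_inv]
    calc g0 * ι (wK ^ (m : ℕ)) * ι rK * (g0 * ι (wK ^ (m : ℕ)))⁻¹
        = g0 * (ι (wK ^ (m : ℕ)) * ι rK * (ι (wK ^ (m : ℕ)))⁻¹) * g0⁻¹ := by group
      _ = g0 * (g0⁻¹ * ι x3K * g0) * g0⁻¹ := by rw [this]
      _ = _ := by group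
  · rw [hιz, hzcard]
  · -- the mixed lines
    have hi00 : i0 ≠ 0 := by
      intro h
      have h180 : Nat.card (Subgroup.centralizer ({ι wK} : Set G)) = 180 := by
        rw [← hg0z, card_centralizer_conj, hzcard]
      rw [hy, h] at hycard
      rw [show dK 0 1 = wK by decide +kernel, h180] at hycard
      omega
    intro i k hi hk
    obtain ⟨p, q, hpq⟩ := mixed_conj i0 1 i k hi00 (by decide) hi hk
    set u := x3K ^ (p : ℕ) * rK ^ (q : ℕ) with hu
    have he2 : ι (dK i k) = ι u * y * (ι u)⁻¹ := by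
      rw [← hpq, map_mul, map_mul, map_inv, hy]
    refine ⟨by rw [he2, card_centralizer_conj, hycard], fun c hc => ?_⟩
    have huN : ι u ∈ ND := (hHiff u).2 ⟨(0, 0, p, q), by
      show u = dK 0 0 * x3K ^ (p : ℕ) * rK ^ (q : ℕ)
      rw [hu, show dK 0 0 = 1 by decide +kernel, one_mul]⟩
    have hc' : (ι u)⁻¹ * c * ι u ∈ Subgroup.centralizer ({y} : Set G) := by
      rw [Subgroup.mem_centralizer_singleton_iff] at hc ⊢
      rw [he2] at hc
      calc (ι u)⁻¹ * c * ι u * y = (ι u)⁻¹ * (c * (ι u * y * (ι u)⁻¹)) * ι u := by group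
        _ = (ι u)⁻¹ * (ι u * y * (ι u)⁻¹ * c) * ι u := by rw [hc]
        _ = _ := by group
    have hDle : D ≤ Subgroup.centralizer ({y} : Set G) := fun d hd =>
      Subgroup.mem_centralizer_singleton_iff.2 (hcomm' d hd y hyD)
    have hcN : (ι u)⁻¹ * c * ι u ∈ ND := by
      refine mem_normalizer_of_conj_mem fun d hd => ?_
      have h := hyn.conj_mem ⟨d, hDle hd⟩ (Subgroup.mem_subgroupOf.2 hd) ⟨_, hc'⟩
      simpa [Subgroup.mem_subgroupOf] using h
    have := mul_mem (mul_mem huN hcN) (inv_mem huN)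
    rwa [show ι u * ((ι u)⁻¹ * c * ι u) * (ι u)⁻¹ = c by group] at this

end Cfsg.Agent.EightLocal
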