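import Mathlib
import Cfsg.Agent.Lib.EightLocal.Setup

/-!
# The two lines of the Sylow 3-subgroup
-/

set_option autoImplicit false

namespace Cfsg.Agent.EightLocal

universe u

theorem line_split : ∀ i k : Fin 3, (i ≠ 0 ∧ k ≠ 0) ∨
    dK i k = 1 ∨ dK i k = zK ∨ dK i k = zK⁻¹ ∨ dK i k = wK ∨ dK i k = wK⁻¹ := by decide +kernel

theorem zK_ne_wK : zK ≠ wK ∧ zK ≠ wK⁻¹ := by decide +kernel

theorem mixed_fixed : ∀ i k : Fin 3, i ≠ 0 → k ≠ 0 → ∀ a b : Kp,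
    (a = zK ∨ a = zK⁻¹) → (b = wK ∨ b = wK⁻¹) → a ^ (i : ℕ) * b ^ (k : ℕ) = dK i k →
    a = zK ∧ b = wK := by
  have h : ∀ i k : Fin 3, i ≠ 0 → k ≠ 0 →
      (zK⁻¹ ^ (i : ℕ) * wK ^ (k : ℕ) ≠ dK i k) ∧ (zK ^ (i : ℕ) * wK⁻¹ ^ (k : ℕ) ≠ dK i k) ∧
      (zK⁻¹ ^ (i : ℕ) * wK⁻¹ ^ (k : ℕ) ≠ dK i k) := by decide +kernel
  intro i k hi hk a b ha hb hab
  obtain ⟨h1, h2, h3⟩ := h i k hi hk
  rcases ha with rfl | rfl <;> rcases hb with rfl | rfl
  · exact ⟨rfl, rfl⟩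
  · exact absurd hab h2
  · exact absurd hab h1
  · exact absurd hab h3

theorem commute_zK_pow : ∀ k : Kp, k * zK = zK * k → k.1.1 ^ 3 = 1 := by decide +kernel

namespace Data

variable {G : Type u} [Group G] [Finite G] (d : Data G)

/-- the distinguished element `z` -/
abbrev z : G := d.ι zK

/-- the conjugate `w` of `z` -/
abbrev w : G := d.ι wK

/-- the embedding of the normaliser of the line of `w` -/
def κ : Kp →* G := (MulAut.conj d.g).toMonoidHom.comp d.ι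

theorem κ_apply (k : Kp) : d.κ k = d.g * d.ι k * d.g⁻¹ := rfl

theorem κ_zK : d.κ zK = d.w := d.g_z
theorem κ_wK : d.κ wK = d.z := d.g_w
theorem κ_rK : d.κ rK = d.ι x3K := d.g_r

theorem κ_injective : Function.Injective d.κ := (MulAut.conj d.g).injective.comp d.inj

theorem z_cube : d.z ^ 3 = 1 := by rw [z, ← map_pow, zK_pow_three, map_one]
theorem w_cube : d.w ^ 3 = 1 := by rw [w, ← map_pow, wK_pow_three, map_one]

theorem z_ne_one : d.z ≠ 1 := fun h => zK_ne_one (d.inj (h.trans (map_one _).symm))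
theorem w_ne_one : d.w ≠ 1 := fun h => wK_ne_one (d.inj (h.trans (map_one _).symm))

theorem orderOf_z : orderOf d.z = 3 := by
  haveI : Fact (Nat.Prime 3) := ⟨Nat.prime_three⟩
  exact orderOf_eq_prime d.z_cube d.z_ne_one

theorem orderOf_w : orderOf d.w = 3 := by
  haveI : Fact (Nat.Prime 3) := ⟨Nat.prime_three⟩
  exact orderOf_eq_prime d.w_cube d.w_ne_one

theorem z_mem : d.z ∈ d.D := (d.mem_D _).2 ⟨1, 0, by simp [dK]⟩
theorem w_mem : d.w ∈ d.D := (d.mem_D _).2 ⟨0, 1, by simp [dK]⟩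

theorem card_C_w : Nat.card (Subgroup.centralizer ({d.w} : Set G)) = 180 := by
  rw [w, ← d.g_z, card_centralizer_conj, d.card_C_z]

theorem κ_range_iff (x : G) :
    x ∈ d.κ.range ↔ (x * d.w * x⁻¹ = d.w ∨ x * d.w * x⁻¹ = d.w⁻¹) := by
  have h1 : x ∈ d.κ.range ↔ d.g⁻¹ * x * d.g ∈ d.ι.range := by
    constructor
    · rintro ⟨k, rfl⟩
      exact ⟨k, by rw [κ_apply]; group⟩
    · rintro ⟨k, hk⟩
      exact ⟨k, by rw [κ_apply, hk]; group⟩
  rw [h1, d.range_iff]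
  have e : d.g⁻¹ * x * d.g * d.z * (d.g⁻¹ * x * d.g)⁻¹ = d.g⁻¹ * (x * d.w * x⁻¹) * d.g := by
    rw [w, ← d.g_z]; group
  have hz' : d.z = d.g⁻¹ * d.w * d.g := by rw [w, ← d.g_z]; group
  constructor
  · rintro (h | h) <;> rw [e] at h
    · exact Or.inl (mul_left_cancel (mul_right_cancel (h.trans hz')))
    · replace h := h.trans (congrArg (·⁻¹) hz')
      refine Or.inr (mul_left_cancel (a := d.g⁻¹) (mul_right_cancel (b := d.g) (h.trans ?_)))
      group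
  · rintro (h | h) <;> rw [e, h]
    · exact Or.inl hz'.symm
    · right
      show _ = d.z⁻¹
      rw [hz']; group

theorem exists_ι_of_commute {x : G} (h : x * d.z = d.z * x) :
    ∃ k : Kp, d.ι k = x ∧ k * zK = zK * k := by
  obtain ⟨k, hk⟩ := (d.range_iff x).2 (Or.inl (by rw [h]; group))
  exact ⟨k, hk, d.inj (by rw [map_mul, map_mul, hk]; exact h)⟩

theorem exists_κ_of_commute {x : G} (h : x * d.w = d.w * x) :
    ∃ k : Kp, d.κ k = x ∧ k * zK = zK * k := by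
  obtain ⟨k, hk⟩ := (d.κ_range_iff x).2 (Or.inl (by rw [h]; group))
  exact ⟨k, hk, d.κ_injective (by rw [map_mul, map_mul, hk, κ_zK]; exact h)⟩

theorem D_comm {a b : G} (ha : a ∈ d.D) (hb : b ∈ d.D) : a * b = b * a := by
  have : b ∈ Subgroup.centralizer (d.D : Set G) := d.hC.symm ▸ hb
  exact Subgroup.mem_centralizer_iff.1 this a ha

theorem D_cases {a : G} (ha : a ∈ d.D) : (∃ i k : Fin 3, i ≠ 0 ∧ k ≠ 0 ∧ a = d.ι (dK i k)) ∨
    a = 1 ∨ a = d.z ∨ a = d.z⁻¹ ∨ a = d.w ∨ a = d.w⁻¹ := by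
  obtain ⟨i, k, rfl⟩ := (d.mem_D a).1 ha
  rcases line_split i k with h | h | h | h | h | h
  · exact Or.inl ⟨i, k, h.1, h.2, rfl⟩
  all_goals rw [h]
  · simp
  · simp
  · simp
  · simp
  · simp

theorem D_cube {a : G} (ha : a ∈ d.D) : a ^ 3 = 1 := by
  obtain ⟨i, k, rfl⟩ := (d.mem_D a).1 ha
  have h : ∀ i k : Fin 3, dK i k ^ 3 = 1 := by decide +kernel
  rw [← map_pow, h, map_one]

theorem line_of_card {a : G} (ha : a ∈ d.D) (ha1 : a ≠ 1)
    (hc : Nat.card (Subgroup.centralizer ({a} : Set G)) = 180) :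
    a = d.z ∨ a = d.z⁻¹ ∨ a = d.w ∨ a = d.w⁻¹ := by
  rcases d.D_cases ha with ⟨i, k, hi, hk, rfl⟩ | h | h
  · rw [(d.mixed i k hi hk).1] at hc; omega
  · exact absurd h ha1
  · exact h

theorem line_z {x : G} (h : x * d.z * x⁻¹ ∈ d.D) :
    x * d.z * x⁻¹ = d.z ∨ x * d.z * x⁻¹ = d.z⁻¹ ∨ x * d.z * x⁻¹ = d.w ∨ x * d.z * x⁻¹ = d.w⁻¹ :=
  d.line_of_card h (fun e => d.z_ne_one (conj_eq_one_iff.1 e))
    (by rw [card_centralizer_conj]; exact d.card_C_z)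

theorem line_w {x : G} (h : x * d.w * x⁻¹ ∈ d.D) :
    x * d.w * x⁻¹ = d.z ∨ x * d.w * x⁻¹ = d.z⁻¹ ∨ x * d.w * x⁻¹ = d.w ∨ x * d.w * x⁻¹ = d.w⁻¹ :=
  d.line_of_card h (fun e => d.w_ne_one (conj_eq_one_iff.1 e))
    (by rw [card_centralizer_conj]; exact d.card_C_w)

theorem ι_mem_normalizer {k : Kp} (h : d.ι k ∈ Subgroup.normalizer (d.D : Set G)) :
    ∃ x, k = nK x := by
  rw [← nK_iff]
  intro i j
  obtain ⟨i', j', hij⟩ := (d.mem_D _).1 ((Subgroup.mem_normalizer_iff.1 h _).1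
    ((d.mem_D _).2 ⟨i, j, rfl⟩))
  exact ⟨i', j', d.inj (by simpa using hij)⟩

theorem z_ne_w : d.z ≠ d.w ∧ d.z ≠ d.w⁻¹ :=
  ⟨fun h => zK_ne_wK.1 (d.inj h), fun h => zK_ne_wK.2 (d.inj (h.trans (map_inv _ _).symm))⟩

/-- An involution centralising a mixed element of `D` exchanges the two lines. -/
theorem swap {i k : Fin 3} (hi : i ≠ 0) (hk : k ≠ 0) {x : G}
    (hx : x * d.ι (dK i k) = d.ι (dK i k) * x) (hxx : x * x = 1) (hx1 : x ≠ 1) :
    (x * d.z * x⁻¹ = d.w ∨ x * d.z * x⁻¹ = d.w⁻¹) ∧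
      (x * d.w * x⁻¹ = d.z ∨ x * d.w * x⁻¹ = d.z⁻¹) := by
  have hxN : x ∈ Subgroup.normalizer (d.D : Set G) :=
    (d.mixed i k hi hk).2 (Subgroup.mem_centralizer_singleton_iff.2 hx)
  have hzD := (Subgroup.mem_normalizer_iff.1 hxN _).1 d.z_mem
  have hwD := (Subgroup.mem_normalizer_iff.1 hxN _).1 d.w_mem
  have hxi : x⁻¹ = x := inv_eq_of_mul_eq_one_right hxx
  have hback : ∀ a b : G, x * a * x⁻¹ = b → x * b * x⁻¹ = a := by
    intro a b h
    rw [← h, hxi]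
    calc x * (x * a * x) * x = x * x * a * (x * x) := by group
      _ = a := by rw [hxx]; group
  have hback' : ∀ a b : G, x * a * x⁻¹ = b⁻¹ → x * b * x⁻¹ = a⁻¹ := by
    intro a b h
    have := hback _ _ h
    rw [← this, conj_inv]
    simp
  rcases d.line_z hzD with h | h | h | h
  rotate_left 2
  · exact ⟨Or.inl h, Or.inl (hback _ _ h)⟩
  · exact ⟨Or.inr h, Or.inr (hback' _ _ h)⟩
  all_goals exfalso
  all_goals
    have hw : x * d.w * x⁻¹ = d.w ∨ x * d.w * x⁻¹ = d.w⁻¹ := by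
      rcases d.line_w hwD with h' | h' | h' | h'
      · exfalso
        have h'' := hback _ _ h'
        rw [h] at h''
        first | exact d.z_ne_w.1 h'' | exact d.z_ne_w.2 (inv_eq_iff_eq_inv.1 h'')
      · exfalso
        have h'' := hback' _ _ h'
        rw [h] at h''
        first | exact d.z_ne_w.2 h'' | exact d.z_ne_w.1 (inv_injective h'')
      · exact Or.inl h'
      · exact Or.inr h'
    obtain ⟨a, ha, hza⟩ : ∃ a : Kp, (a = zK ∨ a = zK⁻¹) ∧ x * d.z * x⁻¹ = d.ι a := by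
      first
      | exact ⟨zK, Or.inl rfl, h⟩
      | exact ⟨zK⁻¹, Or.inr rfl, by rw [h, map_inv]⟩
    obtain ⟨b, hb, hwb⟩ : ∃ b : Kp, (b = wK ∨ b = wK⁻¹) ∧ x * d.w * x⁻¹ = d.ι b := by
      rcases hw with h' | h'
      · exact ⟨wK, Or.inl rfl, h'⟩
      · exact ⟨wK⁻¹, Or.inr rfl, by rw [h', map_inv]⟩
    obtain ⟨rfl, rfl⟩ := mixed_fixed i k hi hk a b ha hb (d.inj (by
      rw [map_mul, map_pow, map_pow, ← hza, ← hwb, conj_pow, conj_pow]
      calc x * d.z ^ (i : ℕ) * x⁻¹ * (x * d.w ^ (k : ℕ) * x⁻¹)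
          = x * d.ι (dK i k) * x⁻¹ := by rw [dK, map_mul, map_pow, map_pow]; group
        _ = d.ι (dK i k) := by rw [hx]; group))
    have hxC : x ∈ Subgroup.centralizer (d.D : Set G) := by
      rw [Subgroup.mem_centralizer_iff]
      intro a ha'
      obtain ⟨i', k', rfl⟩ := (d.mem_D a).1 ha'
      have e1 : Commute x d.z := mul_inv_eq_iff_eq_mul.1 hza
      have e2 : Commute x d.w := mul_inv_eq_iff_eq_mul.1 hwb
      rw [dK, map_mul, map_pow, map_pow]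
      exact ((e1.pow_right _).mul_right (e2.pow_right _)).eq.symm
    rw [d.hC] at hxC
    have h3 := d.D_cube hxC
    rw [pow_succ, pow_two, hxx, one_mul] at h3
    exact hx1 h3

end Data

end Cfsg.Agent.EightLocal
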