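import Mathlib
import Cfsg.Agent.Lib.EightLocal.Lines
import Cfsg.Agent.Lib.Transfer.Thompson
import Cfsg.Agent.Lib.Coprime.Generation

/-!
# A double transposition centralising the four subgroup
-/

set_option autoImplicit false

namespace Cfsg.Agent.EightLocal

open Equiv

universe u

def v1K : Kp := ⟨(1, c[2, 3] * c[4, 0]), by decide +kernel⟩
def v2K : Kp := ⟨(1, c[2, 4] * c[3, 0]), by decide +kernel⟩

/-- the four subgroup on the points `0, 2, 3, 4` -/
def VK : Subgroup Kp where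
  carrier := {x | x = 1 ∨ x = v1K ∨ x = v2K ∨ x = v1K * v2K}
  one_mem' := Or.inl rfl
  mul_mem' := by
    have h : (v1K * v1K = 1) ∧ (v2K * v2K = 1) ∧ (v2K * v1K = v1K * v2K) := by decide +kernel
    obtain ⟨h1, h2, h3⟩ := h
    rintro a b (rfl | rfl | rfl | rfl) (rfl | rfl | rfl | rfl) <;>
      simp [Set.mem_ofPred_eq, h1, h2, h3, mul_assoc, mul_left_cancel_iff,
        ← mul_assoc v1K v1K, ← mul_assoc v2K v1K, ← mul_assoc v2K v2K]
  inv_mem' := by
    have h : v1K⁻¹ = v1K ∧ v2K⁻¹ = v2K ∧ (v1K * v2K)⁻¹ = v1K * v2K := by decide +kernel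
    obtain ⟨h1, h2, h3⟩ := h
    rintro a (rfl | rfl | rfl | rfl)
    · exact Or.inl inv_one
    · exact Or.inr (Or.inl h1)
    · exact Or.inr (Or.inr (Or.inl h2))
    · exact Or.inr (Or.inr (Or.inr h3))

theorem mem_VK {x : Kp} : x ∈ VK ↔ x = 1 ∨ x = v1K ∨ x = v2K ∨ x = v1K * v2K := Iff.rfl

theorem card_VK : Nat.card VK = 4 := by
  have e : (VK : Set Kp) = {1, v1K, v2K, v1K * v2K} := by
    ext x
    simp [mem_VK]
  have e2 : ({1, v1K, v2K, v1K * v2K} : Finset Kp).card = 4 := by decide +kernel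
  rw [show Nat.card VK = Nat.card (VK : Set Kp) from rfl, e, Nat.card_coe_set_eq]
  rw [show ({1, v1K, v2K, v1K * v2K} : Set Kp) = (({1, v1K, v2K, v1K * v2K} : Finset Kp) : Set Kp) by simp,
    Set.ncard_coe_finset, e2]

theorem VK_cases : ∀ k : Kp, k * v1K = v1K * k → k * v2K = v2K * k →
    k * zK = zK * k ∧ k ^ 6 = 1 ∧
      (k * k = 1 → k = 1 ∨ k = v1K ∨ k = v2K ∨ k = v1K * v2K) := by decide +kernel

theorem conj_vK : (wK * v1K * wK⁻¹ = v1K ∨ wK * v1K * wK⁻¹ = v2K ∨ wK * v1K * wK⁻¹ = v1K * v2K) ∧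
    (wK * v2K * wK⁻¹ = v1K ∨ wK * v2K * wK⁻¹ = v2K ∨ wK * v2K * wK⁻¹ = v1K * v2K) ∧
    (wK⁻¹ * v1K * wK = v1K ∨ wK⁻¹ * v1K * wK = v2K ∨ wK⁻¹ * v1K * wK = v1K * v2K) ∧
    (wK⁻¹ * v2K * wK = v1K ∨ wK⁻¹ * v2K * wK = v2K ∨ wK⁻¹ * v2K * wK = v1K * v2K) := by
  decide +kernel

theorem vK_zK : v1K * zK = zK * v1K ∧ v2K * zK = zK * v2K ∧ v1K * v1K = 1 ∧ v1K ≠ 1 ∧
    wK * v1K ≠ v1K * wK := by decide +kernel

theorem r_in_κ : ∀ k : Kp, k * k = 1 → k * zK * k⁻¹ = zK⁻¹ → k * wK * k⁻¹ = wK →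
    k * rK = rK * k → j1K * k * j1K⁻¹ = rK * k := by decide +kernel

namespace Data

variable {G : Type u} [Group G] [Finite G] (d : Data G)

/-- the centraliser of the four subgroup -/
def CV : Subgroup G := Subgroup.centralizer ({d.κ v1K, d.κ v2K} : Set G)

theorem mem_CV {x : G} : x ∈ d.CV ↔ x * d.κ v1K = d.κ v1K * x ∧ x * d.κ v2K = d.κ v2K * x := by
  rw [CV, Subgroup.mem_centralizer_iff]
  simp only [Set.mem_insert_iff, Set.mem_singleton_iff, forall_eq_or_imp, forall_eq]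
  exact and_congr eq_comm eq_comm

theorem commute_V {c : G} (h : c ∈ d.CV) {v : Kp} (hv : v ∈ VK) : c * d.κ v = d.κ v * c := by
  obtain ⟨h1, h2⟩ := d.mem_CV.1 h
  rcases mem_VK.1 hv with rfl | rfl | rfl | rfl
  · simp
  · exact h1
  · exact h2
  · rw [map_mul]; exact ((show Commute c _ from h1).mul_right h2).eq

theorem w_mem_CV : d.w ∈ d.CV := by
  rw [mem_CV, ← κ_zK, ← map_mul, ← map_mul, ← map_mul, ← map_mul, ← vK_zK.1, ← vK_zK.2.1]
  exact ⟨rfl, rfl⟩

theorem D_normalizes : ∀ a ∈ d.D, ∀ c ∈ d.CV, a * c * a⁻¹ ∈ d.CV := by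
  have hz : ∀ u : Kp, (∀ v ∈ ({v1K, v2K} : Set Kp), u⁻¹ * v * u ∈ VK) → ∀ c ∈ d.CV,
      d.κ u * c * (d.κ u)⁻¹ ∈ d.CV := by
    intro u hu c hc
    have key : ∀ v ∈ ({v1K, v2K} : Set Kp),
        d.κ u * c * (d.κ u)⁻¹ * d.κ v = d.κ v * (d.κ u * c * (d.κ u)⁻¹) := by
      intro v hv
      have h := d.commute_V hc (hu v hv)
      rw [map_mul, map_mul, map_inv] at h
      calc d.κ u * c * (d.κ u)⁻¹ * d.κ v
          = d.κ u * (c * ((d.κ u)⁻¹ * d.κ v * d.κ u)) * (d.κ u)⁻¹ := by group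
        _ = d.κ u * ((d.κ u)⁻¹ * d.κ v * d.κ u * c) * (d.κ u)⁻¹ := by rw [h]
        _ = _ := by group
    exact d.mem_CV.2 ⟨key _ (by simp), key _ (by simp)⟩
  intro a ha c hc
  obtain ⟨i, k, rfl⟩ := (d.mem_D a).1 ha
  have hpow : ∀ u : Kp, (∀ c ∈ d.CV, d.κ u * c * (d.κ u)⁻¹ ∈ d.CV) →
      ∀ n : ℕ, ∀ c ∈ d.CV, d.κ u ^ n * c * (d.κ u ^ n)⁻¹ ∈ d.CV := by
    intro u h n
    induction n with
    | zero => intro c hc; simpa using hc
    | succ n ih =>
      intro c hc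
      have := h _ (ih c hc)
      rw [pow_succ', mul_inv_rev]
      simpa [mul_assoc] using this
  rw [dK, map_mul, map_pow, map_pow]
  have h1 : ∀ c ∈ d.CV, d.ι wK ^ (k : ℕ) * c * (d.ι wK ^ (k : ℕ))⁻¹ ∈ d.CV := fun c hc => by
    show d.w ^ (k : ℕ) * c * (d.w ^ (k : ℕ))⁻¹ ∈ d.CV
    exact mul_mem (mul_mem (pow_mem d.w_mem_CV _) hc) (inv_mem (pow_mem d.w_mem_CV _))
  have h2 : ∀ c ∈ d.CV, d.z ^ (i : ℕ) * c * (d.z ^ (i : ℕ))⁻¹ ∈ d.CV := by
    rw [← κ_wK]
    refine hpow wK (hz wK ?_) _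
    rintro v (rfl | rfl)
    · exact mem_VK.2 (Or.inr conj_vK.2.2.1)
    · exact mem_VK.2 (Or.inr conj_vK.2.2.2)
  have := h2 _ (h1 c hc)
  convert this using 1
  simp [mul_assoc]

theorem not_nine_dvd_CV : ¬ 9 ∣ Nat.card d.CV := by
  refine not_nine_dvd d.P d.hDP d.hcard d.hC (s := d.κ v1K) ?_ d.CV fun x hx => (d.mem_CV.1 hx).1
  haveI : Fact (Nat.Prime 2) := ⟨Nat.prime_two⟩
  refine orderOf_eq_prime (by rw [sq, ← map_mul, vK_zK.2.2.1, map_one]) fun h => ?_
  exact vK_zK.2.2.2.1 (d.κ_injective (h.trans (map_one _).symm))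

theorem eq_one_of_orderOf {x : G} (h3 : x ^ 3 = 1) (hx : ¬ 3 ∣ orderOf x) : x = 1 := by
  rcases Nat.prime_three.eq_one_or_self_of_dvd _ (orderOf_dvd_of_pow_eq_one h3) with h | h
  · exact orderOf_eq_one_iff.1 h
  · exact absurd (dvd_of_eq h.symm) hx

/-- Unless some even `e` outside `⟨c5⟩` centralises the four subgroup, its centraliser has no
elements of order prime to three outside it. -/
theorem CV_three_prime
    (hne : ∀ k : Kp, k.1.1 = 1 → d.ι k ∈ d.CV → k = 1 ∨ k = wK ∨ k = wK⁻¹) :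
    ∀ x ∈ d.CV, ¬ 3 ∣ orderOf x → x ∈ VK.map d.κ := by
  haveI : Fact (Nat.Prime 3) := ⟨Nat.prime_three⟩
  obtain ⟨O, hO, hO3, -⟩ := three_complement d.CV d.orderOf_w d.w_mem_CV d.not_nine_dvd_CV (by
    intro x hx h
    obtain ⟨k, rfl⟩ := (d.κ_range_iff x).2 h
    obtain ⟨h1, h2⟩ := d.mem_CV.1 hx
    rw [← map_mul, ← map_mul] at h1 h2
    have hk := (VK_cases k (d.κ_injective h1) (d.κ_injective h2)).1
    rw [← κ_zK, ← map_mul, ← map_mul, hk])
  set S := O ⊓ VK.map d.κ with hS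
  haveI : IsMulCommutative d.D := ⟨⟨fun a b => Subtype.ext (d.D_comm a.2 b.2)⟩⟩
  have hncyc : ¬ IsCyclic d.D := by
    intro h
    obtain ⟨v, hv⟩ := IsCyclic.exists_generator (α := d.D)
    have h9 : orderOf v = 9 := by rw [orderOf_eq_card_of_forall_mem_zpowers hv, d.hcard]
    have h3 : orderOf v ∣ 3 := orderOf_dvd_of_pow_eq_one (Subtype.ext (by simpa using d.D_cube v.2))
    rw [h9] at h3
    norm_num at h3
  have hDN : d.D ≤ Subgroup.normalizer (O : Set G) := fun a ha =>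
    mem_normalizer_of_conj_mem fun o ho => (hO _).2
      ⟨d.D_normalizes a ha o ((hO o).1 ho).1, by
        rw [← MulAut.conj_apply, MulEquiv.orderOf_eq]; exact ((hO o).1 ho).2⟩
  have hcop : (Nat.card d.D).Coprime (Nat.card O) := by
    rw [d.hcard, show (9 : ℕ) = 3 ^ 2 by norm_num]
    exact ((Nat.prime_three.coprime_iff_not_dvd).2 hO3).pow_left 2
  have key : S = O := Coprime.eq_of_forall_centralizer_le hncyc hDN hcop inf_le_left (by
    intro a ha ha1 x hx
    obtain ⟨hxO, hxC⟩ := Subgroup.mem_inf.1 hx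
    obtain ⟨hxV, hx3⟩ := (hO x).1 hxO
    rw [Subgroup.mem_centralizer_singleton_iff] at hxC
    refine ⟨hxO, ?_⟩
    have hV1 := (d.mem_CV.1 hxV).1
    have hV2 := (d.mem_CV.1 hxV).2
    rcases d.D_cases ha with ⟨i, k, hi, hk, rfl⟩ | rfl | ha'
    · -- a mixed element
      by_cases hx1 : x = 1
      · rw [hx1]; exact one_mem _
      exfalso
      have hdvd : orderOf x ∣ 18 := by
        rw [← (d.mixed i k hi hk).1, ← Subgroup.orderOf_mk x (Subgroup.mem_centralizer_singleton_iff.2 hxC)]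
        exact orderOf_dvd_natCard _
      have h2 : orderOf x ∣ 2 :=
        ((Nat.prime_three.coprime_iff_not_dvd.2 hx3).symm.pow_right 2).dvd_of_dvd_mul_right
          (show orderOf x ∣ 2 * 3 ^ 2 by simpa using hdvd)
      have hxx : x * x = 1 := by rw [← sq]; exact orderOf_dvd_iff_pow_eq_one.1 h2
      have hwv : Commute d.w (d.κ v1K) := (d.mem_CV.1 d.w_mem_CV).1
      have hzv : Commute d.z (d.κ v1K) := by
        have hxi : x⁻¹ = x := inv_eq_of_mul_eq_one_right hxx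
        have e : d.z = x * (x * d.z * x⁻¹) * x⁻¹ := by
          rw [hxi]
          calc d.z = x * x * d.z * (x * x) := by rw [hxx]; group
            _ = _ := by group
        have hcx : Commute x (d.κ v1K) := hV1
        have hm : Commute (x * d.z * x⁻¹) (d.κ v1K) := by
          rcases (d.swap hi hk hxC hxx hx1).1 with h | h <;> rw [h]
          · exact hwv
          · exact hwv.inv_left
        rw [e]
        exact (hcx.mul_left hm).mul_left hcx.inv_left
      refine vK_zK.2.2.2.2 (d.κ_injective ?_)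
      rw [map_mul, map_mul, κ_wK]
      exact hzv.eq
    · exact absurd rfl ha1
    · rcases ha' with rfl | rfl | rfl | rfl
      rotate_left 2
      · obtain ⟨u, rfl, hu⟩ := d.exists_κ_of_commute hxC
        rw [← map_mul, ← map_mul] at hV1 hV2
        obtain ⟨-, h6, h⟩ := VK_cases u (d.κ_injective hV1) (d.κ_injective hV2)
        refine Subgroup.mem_map_of_mem _ (mem_VK.2 (h ?_))
        have h2 : orderOf (d.κ u) ∣ 2 := (Nat.prime_three.coprime_iff_not_dvd.2 hx3).symm.dvd_of_dvd_mul_right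
          (show orderOf (d.κ u) ∣ 2 * 3 from orderOf_dvd_of_pow_eq_one (by rw [← map_pow, h6, map_one]))
        rw [orderOf_injective _ d.κ_injective] at h2
        rw [← sq]
        exact orderOf_dvd_iff_pow_eq_one.1 h2
      · obtain ⟨u, rfl, hu⟩ := d.exists_κ_of_commute (x := x) (Commute.inv_right_iff.1 hxC)
        rw [← map_mul, ← map_mul] at hV1 hV2
        obtain ⟨-, h6, h⟩ := VK_cases u (d.κ_injective hV1) (d.κ_injective hV2)
        refine Subgroup.mem_map_of_mem _ (mem_VK.2 (h ?_))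
        have h2 : orderOf (d.κ u) ∣ 2 := (Nat.prime_three.coprime_iff_not_dvd.2 hx3).symm.dvd_of_dvd_mul_right
          (show orderOf (d.κ u) ∣ 2 * 3 from orderOf_dvd_of_pow_eq_one (by rw [← map_pow, h6, map_one]))
        rw [orderOf_injective _ d.κ_injective] at h2
        rw [← sq]
        exact orderOf_dvd_iff_pow_eq_one.1 h2
      all_goals
        obtain ⟨u, rfl, hu⟩ := d.exists_ι_of_commute (x := x) (by
          first | exact hxC | exact Commute.inv_right_iff.1 hxC)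
        have hu1 : u.1.1 = 1 := by
          have hp : u.1.1 ^ 3 = 1 := commute_zK_pow u hu
          refine eq_one_of_orderOf' hp fun h => hx3 ?_
          rw [orderOf_injective _ d.inj, ← Subgroup.orderOf_coe]
          exact h.trans (orderOf_map_dvd (MonoidHom.fst (Perm (Fin 3)) (Perm (Fin 5))) _)
        have h1 : d.ι u = 1 := by
          refine eq_one_of_orderOf ?_ hx3
          rcases hne u hu1 hxV with rfl | rfl | rfl
          · simp
          · exact d.w_cube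
          · rw [map_inv, inv_pow]; simp [d.w_cube]
        rw [h1]
        exact one_mem _)
  intro x hx h3
  exact (key.symm.le ((hO x).2 ⟨hx, h3⟩)).2
where
  eq_one_of_orderOf' {a : Perm (Fin 3)} (h3 : a ^ 3 = 1) (hx : ¬ 3 ∣ orderOf a) : a = 1 := by
    rcases Nat.prime_three.eq_one_or_self_of_dvd _ (orderOf_dvd_of_pow_eq_one h3) with h | h
    · exact orderOf_eq_one_iff.1 h
    · exact absurd (dvd_of_eq h.symm) hx

/-- Some element of the `Alt 5` of `C(z)` outside `⟨w⟩` centralises the four subgroup of `C(w)`. -/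
theorem exists_commute : ∃ k : Kp, k.1.1 = 1 ∧ k ≠ 1 ∧ k ≠ wK ∧ k ≠ wK⁻¹ ∧ d.ι k ∈ d.CV := by
  classical
  by_contra hall
  push Not at hall
  have hne : ∀ k : Kp, k.1.1 = 1 → d.ι k ∈ d.CV → k = 1 ∨ k = wK ∨ k = wK⁻¹ := by
    intro k h1 h2
    by_contra h
    simp only [not_or] at h
    exact hall k h1 h.1 h.2.1 h.2.2 h2
  have hCV := d.CV_three_prime hne
  haveI : Fact (Nat.Prime 2) := ⟨Nat.prime_two⟩
  haveI : Fact (Nat.Prime 3) := ⟨Nat.prime_three⟩
  set V := VK.map d.κ with hVdef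
  have hV4 : Nat.card V = 4 := by rw [hVdef, Subgroup.card_map_of_injective d.κ_injective, card_VK]
  have hVexp : ∀ v ∈ V, v * v = 1 := by
    rintro _ ⟨v, hv, rfl⟩
    have h : ∀ v : Kp, v = 1 ∨ v = v1K ∨ v = v2K ∨ v = v1K * v2K → v * v = 1 := by decide +kernel
    rw [← map_mul, h v (mem_VK.1 hv), map_one]
  have hV2 : IsPGroup 2 V := IsPGroup.of_card (n := 2) (by rw [hV4]; norm_num)
  obtain ⟨T, hT⟩ := hV2.exists_le_sylow
  -- `V` is self-centralising in `T`
  have hCT : ∀ x ∈ (T : Subgroup G), (∀ v ∈ V, v * x = x * v) → x ∈ V := by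
    intro x hx h
    refine hCV x (d.mem_CV.2 ⟨(h _ ⟨v1K, mem_VK.2 (Or.inr (Or.inl rfl)), rfl⟩).symm,
      (h _ ⟨v2K, mem_VK.2 (Or.inr (Or.inr (Or.inl rfl))), rfl⟩).symm⟩) ?_
    obtain ⟨n, hn⟩ := T.isPGroup' ⟨x, hx⟩
    intro h3
    have h2 : orderOf x ∣ 2 ^ n := orderOf_dvd_of_pow_eq_one (by simpa using congrArg Subtype.val hn)
    have := Nat.prime_three.dvd_of_dvd_pow (h3.trans h2)
    omega
  -- an involution centralising a mixed element
  obtain ⟨⟨j, hjC⟩, hj⟩ := exists_prime_orderOf_dvd_card'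
    (G := Subgroup.centralizer ({d.ι (dK 1 1)} : Set G)) 2
    (by rw [(d.mixed 1 1 (by decide) (by decide)).1]; norm_num)
  rw [Subgroup.orderOf_mk] at hj
  rw [Subgroup.mem_centralizer_singleton_iff] at hjC
  have hjj : j * j = 1 := by
    have h := pow_orderOf_eq_one j
    rwa [hj, sq] at h
  have hj1 : j ≠ 1 := fun h => by rw [h, orderOf_one] at hj; omega
  have hfus : ∀ h : G, h * j * h⁻¹ ∉ V := by
    rintro h ⟨v, hv, hvj⟩
    have hvw : Commute (d.κ v) d.w := by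
      rw [commute_iff_eq, ← κ_zK, ← map_mul, ← map_mul]
      rcases mem_VK.1 hv with rfl | rfl | rfl | rfl
      · simp
      · rw [vK_zK.1]
      · rw [vK_zK.2.1]
      · rw [mul_assoc, vK_zK.2.1, ← mul_assoc, vK_zK.1, mul_assoc]
    set X := Subgroup.centralizer ({j} : Set G) with hX
    have h9 := not_nine_dvd d.P d.hDP d.hcard d.hC hj X fun x hx =>
      Subgroup.mem_centralizer_singleton_iff.1 hx
    have ha : h⁻¹ * d.w * h ∈ X := by
      rw [hX, Subgroup.mem_centralizer_singleton_iff]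
      have e : j = h⁻¹ * d.κ v * h := by rw [hvj]; group
      rw [e]
      calc h⁻¹ * d.w * h * (h⁻¹ * d.κ v * h) = h⁻¹ * (d.w * d.κ v) * h := by group
        _ = h⁻¹ * (d.κ v * d.w) * h := by rw [hvw.eq]
        _ = _ := by group
    have hb : d.ι (dK 1 1) ∈ X := Subgroup.mem_centralizer_singleton_iff.2 hjC.symm
    have ob : orderOf (d.ι (dK 1 1)) = 3 := orderOf_eq_prime (by
        rw [← map_pow, show dK 1 1 ^ 3 = 1 by decide +kernel, map_one]) fun e => by
      have := d.inj (e.trans (map_one _).symm)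
      revert this
      decide +kernel
    have oa : orderOf (h⁻¹ * d.w * h) = 3 := by
      have := MulEquiv.orderOf_eq (MulAut.conj h⁻¹) d.w
      rw [MulAut.conj_apply, inv_inv] at this
      rw [this, orderOf_w]
    obtain ⟨m, -, hm⟩ := three_conj h9 ha hb oa ob
    have hc : Nat.card (Subgroup.centralizer ({m * (h⁻¹ * d.w * h) * m⁻¹} : Set G)) = 180 := by
      rw [card_centralizer_conj]
      have := card_centralizer_conj h⁻¹ d.w
      rw [inv_inv] at this
      rw [this, card_C_w]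
    rcases hm with hm | hm <;> rw [hm] at hc
    · rw [(d.mixed 1 1 (by decide) (by decide)).1] at hc; omega
    · rw [centralizer_singleton_inv, (d.mixed 1 1 (by decide) (by decide)).1] at hc; omega
  -- a conjugate in `T`
  have hj2 : IsPGroup 2 (Subgroup.zpowers j) :=
    IsPGroup.of_card (n := 1) (by rw [Nat.card_zpowers, hj, pow_one])
  obtain ⟨T', hT'⟩ := hj2.exists_le_sylow
  obtain ⟨h0, hh0⟩ := MulAction.exists_smul_eq G T' T
  have hj'T : h0 * j * h0⁻¹ ∈ (T : Subgroup G) := by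
    rw [← hh0, Sylow.coe_subgroup_smul]
    exact ⟨j, hT' (Subgroup.mem_zpowers j), rfl⟩
  obtain ⟨M, hMi, hM⟩ := exists_index_two_of_four T.isPGroup' (V.subgroupOf (T : Subgroup G))
    (by rw [Nat.card_congr (Subgroup.subgroupOfEquivOfLe hT).toEquiv, hV4])
    (fun v hv => Subtype.ext (hVexp _ hv))
    (fun x hx => Subgroup.mem_subgroupOf.2 (hCT x.1 x.2 fun v hv =>
      congrArg Subtype.val (Subgroup.mem_centralizer_iff.1 hx ⟨v, hT hv⟩ hv)))
    (fun h => hfus h0 (by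
      have : (⟨_, hj'T⟩ : (T : Subgroup G)) ∈ V.subgroupOf (T : Subgroup G) := h ▸ Subgroup.mem_top _
      exact this))
  set Q := M.map (T : Subgroup G).subtype with hQ
  have hQi : Q.relIndex (T : Subgroup G) = 2 := by
    rw [hQ, Subgroup.relIndex, Subgroup.subgroupOf,
      Subgroup.comap_map_eq_self_of_injective (T : Subgroup G).subtype_injective, hMi]
  have hnotQ : ∀ g : G, g * (h0 * j * h0⁻¹) * g⁻¹ ∉ Q := by
    rintro g ⟨u, hu, hue⟩
    have e : ((u : G)) = g * h0 * j * (g * h0)⁻¹ := by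
      rw [show (u : G) = g * (h0 * j * h0⁻¹) * g⁻¹ from hue]; group
    have huu : u * u = 1 := by
      apply Subtype.ext
      show (u : G) * u = 1
      rw [e, show g * h0 * j * (g * h0)⁻¹ * (g * h0 * j * (g * h0)⁻¹) = g * h0 * (j * j) * (g * h0)⁻¹ by group,
        hjj]
      group
    obtain ⟨t, ht⟩ := hM u hu huu
    have ht' : t.1 * u.1 * (t.1)⁻¹ ∈ V := ht
    rw [e] at ht'
    refine hfus (t.1 * g * h0) ?_
    rwa [show t.1 * g * h0 * j * (t.1 * g * h0)⁻¹ = t.1 * (g * h0 * j * (g * h0)⁻¹) * (t.1)⁻¹ by group]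
  obtain ⟨M0, hM0n, hM0i, hjM0'⟩ := Transfer.exists_index_two_of_involution T Q
    (Subgroup.map_subtype_le M) hQi (h0 * j * h0⁻¹)
    (by rw [conj_pow, sq, hjj]; group) hj'T
    (fun h => hnotQ 1 (by simpa using h)) hnotQ
  have hjM0 : j ∉ M0 := fun h => hjM0' (hM0n.conj_mem j h h0)
  have hcube : ∀ a : G, a ^ 3 = 1 → a ∈ M0 := by
    intro a ha
    have h := Subgroup.mul_self_mem_of_index_two hM0i (a * a)
    rwa [show a * a * (a * a) = a ^ 3 * a by simp [pow_succ, mul_assoc], ha, one_mul] at h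
  have hcubeK : ∀ k : Kp, k ^ 3 = 1 → d.ι k ∈ M0 := fun k hk =>
    hcube _ (by rw [← map_pow, hk, map_one])
  have hrM : d.ι rK ∈ M0 := by
    rw [show rK = (⟨(1, c[0, 1, 2]), by decide +kernel⟩ : Kp) * ⟨(1, c[1, 2, 3]), by decide +kernel⟩ by
      decide +kernel, map_mul]
    exact mul_mem (hcubeK _ (by decide +kernel)) (hcubeK _ (by decide +kernel))
  have hκM : ∀ k : Kp, d.ι k ∈ M0 → d.κ k ∈ M0 := fun k hk => hM0n.conj_mem _ hk d.g
  have hx3M : d.ι x3K ∈ M0 := by rw [← κ_rK]; exact hκM _ hrM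
  have hj1M : d.ι j1K ∈ M0 := by
    rw [show j1K = (⟨(1, c[0, 2, 1]), by decide +kernel⟩ : Kp) * ⟨(1, c[2, 1, 3]), by decide +kernel⟩ by
      decide +kernel, map_mul]
    exact mul_mem (hcubeK _ (by decide +kernel)) (hcubeK _ (by decide +kernel))
  -- `r` seen from the line of `w`
  obtain ⟨kr, hkr⟩ : d.ι rK ∈ d.κ.range := (d.κ_range_iff _).2 (Or.inr (by
    rw [← map_inv, ← map_mul, ← map_mul, rK_wK, map_inv]))
  have hkr1 : j1K * kr * j1K⁻¹ = rK * kr := by
    refine r_in_κ kr (d.κ_injective ?_) (d.κ_injective ?_) (d.κ_injective ?_) (d.κ_injective ?_)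
    · rw [map_mul, hkr, ← map_mul, show rK * rK = 1 by decide +kernel, map_one, map_one]
    · rw [map_mul, map_mul, map_inv, map_inv, hkr, κ_zK, ← map_inv, ← map_mul, ← map_mul, rK_wK, map_inv]
    · rw [map_mul, map_mul, map_inv, hkr, κ_wK, ← map_inv, ← map_mul, ← map_mul, rK_zK]
    · rw [map_mul, map_mul, hkr, κ_rK, ← map_mul, ← map_mul,
        show rK * x3K = x3K * rK by decide +kernel]
  set hh := d.κ j1K * d.ι j1K with hhh
  have hhM : hh ∈ M0 := mul_mem (hκM _ hj1M) hj1M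
  have hhx3 : hh * d.ι x3K * hh⁻¹ = d.ι rK := by
    have e1 : d.ι j1K * d.ι x3K * (d.ι j1K)⁻¹ = d.ι x3K * d.ι rK := by
      rw [← map_inv, ← map_mul, ← map_mul, ← map_mul,
        show j1K * x3K * j1K⁻¹ = x3K * rK by decide +kernel]
    have e2 : d.κ j1K * d.ι rK * (d.κ j1K)⁻¹ = d.ι x3K * d.ι rK := by
      rw [← hkr, ← map_inv, ← map_mul, ← map_mul, hkr1, map_mul, κ_rK]
    have e3 : (d.κ j1K)⁻¹ = d.κ j1K := by
      rw [← map_inv, show j1K⁻¹ = j1K by decide +kernel]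
    calc hh * d.ι x3K * hh⁻¹ = d.κ j1K * (d.ι j1K * d.ι x3K * (d.ι j1K)⁻¹) * (d.κ j1K)⁻¹ := by
          rw [hhh]; group
      _ = (d.κ j1K)⁻¹ * (d.κ j1K * d.ι rK * (d.κ j1K)⁻¹) * d.κ j1K := by rw [e1, e2, e3]
      _ = d.ι rK := by group
  have hor : orderOf (d.ι rK) = 2 := orderOf_eq_prime (by
      rw [sq, ← map_mul, show rK * rK = 1 by decide +kernel, map_one]) fun e => by
    have := d.inj (e.trans (map_one _).symm)
    revert this
    decide +kernel
  set X := M0 ⊓ Subgroup.centralizer ({d.ι rK} : Set G) with hX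
  have h9 := not_nine_dvd d.P d.hDP d.hcard d.hC hor X fun x hx =>
    Subgroup.mem_centralizer_singleton_iff.1 (Subgroup.mem_inf.1 hx).2
  have hwM : d.w ∈ M0 := hcube _ d.w_cube
  have hzM : d.z ∈ M0 := hcube _ d.z_cube
  have ha : hh * d.w * hh⁻¹ ∈ X := by
    refine ⟨hM0n.conj_mem _ hwM _, Subgroup.mem_centralizer_singleton_iff.2 ?_⟩
    rw [← hhx3]
    have hc : d.w * d.ι x3K = d.ι x3K * d.w := by
      rw [w, ← map_mul, ← map_mul, show wK * x3K = x3K * wK by decide +kernel]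
    calc hh * d.w * hh⁻¹ * (hh * d.ι x3K * hh⁻¹) = hh * (d.w * d.ι x3K) * hh⁻¹ := by group
      _ = hh * (d.ι x3K * d.w) * hh⁻¹ := by rw [hc]
      _ = _ := by group
  have hb : d.z ∈ X := ⟨hzM, Subgroup.mem_centralizer_singleton_iff.2 (by
    rw [z, ← map_mul, ← map_mul, show zK * rK = rK * zK by decide +kernel])⟩
  obtain ⟨m0, hm0, hm0e⟩ := three_conj h9 ha hb
    (by rw [← MulAut.conj_apply, MulEquiv.orderOf_eq]; exact d.orderOf_w) d.orderOf_z
  set k' := m0 * hh with hk'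
  have hk'M : k' ∈ M0 := mul_mem (Subgroup.mem_inf.1 hm0).1 hhM
  have hk'w : k' * d.w * k'⁻¹ = d.z ∨ k' * d.w * k'⁻¹ = d.z⁻¹ := by
    rw [show k' * d.w * k'⁻¹ = m0 * (hh * d.w * hh⁻¹) * m0⁻¹ by rw [hk']; group]
    exact hm0e
  -- move `D` back
  set Y := M0 ⊓ Subgroup.centralizer ({d.z} : Set G) with hY
  have hDY : (d.P : Subgroup G) ≤ Y := by
    rw [← d.hDP]
    exact fun a ha => ⟨hcube a (d.D_cube ha),
      Subgroup.mem_centralizer_singleton_iff.2 (d.D_comm ha d.z_mem)⟩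
  have hDkY : ((k' • d.P : Sylow 3 G) : Subgroup G) ≤ Y := by
    rintro _ ⟨a, ha, rfl⟩
    have ha' : a ∈ d.D := d.hDP ▸ ha
    refine ⟨hM0n.conj_mem _ (hcube a (d.D_cube ha')) _, Subgroup.mem_centralizer_singleton_iff.2 ?_⟩
    show k' * a * k'⁻¹ * d.z = d.z * (k' * a * k'⁻¹)
    have hc : Commute (k' * a * k'⁻¹) (k' * d.w * k'⁻¹) :=
      (show Commute a d.w from d.D_comm ha' d.w_mem).map (MulAut.conj k').toMonoidHom
    rcases hk'w with e | e <;> rw [e] at hc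
    · exact hc
    · exact Commute.inv_right_iff.1 hc
  obtain ⟨⟨m, hm⟩, hme⟩ := MulAction.exists_smul_eq Y ((k' • d.P).subtype hDkY) (d.P.subtype hDY)
  set g' := m * k' with hg'
  have hg'M : g' ∈ M0 := mul_mem (Subgroup.mem_inf.1 hm).1 hk'M
  have hg'D : ∀ a ∈ d.D, g' * a * g'⁻¹ ∈ d.D := by
    intro a ha
    have hmem : (⟨k' * a * k'⁻¹, hDkY ⟨a, d.hDP ▸ ha, rfl⟩⟩ : Y) ∈
        (((k' • d.P).subtype hDkY : Sylow 3 Y) : Subgroup Y) := ⟨a, d.hDP ▸ ha, rfl⟩
    have h2 : (⟨m, hm⟩ : Y) * ⟨k' * a * k'⁻¹, hDkY ⟨a, d.hDP ▸ ha, rfl⟩⟩ * (⟨m, hm⟩ : Y)⁻¹ ∈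
        ((d.P.subtype hDY : Sylow 3 Y) : Subgroup Y) := by
      rw [← hme, Sylow.coe_subgroup_smul]
      exact ⟨_, hmem, rfl⟩
    rw [Sylow.coe_subtype, Subgroup.mem_subgroupOf] at h2
    rw [d.hDP, hg', show m * k' * a * (m * k')⁻¹ = m * (k' * a * k'⁻¹) * m⁻¹ by group]
    simpa using h2
  have hg'w : g' * d.w * g'⁻¹ = d.z ∨ g' * d.w * g'⁻¹ = d.z⁻¹ := by
    have hmz : m * d.z = d.z * m := Subgroup.mem_centralizer_singleton_iff.1 (Subgroup.mem_inf.1 hm).2
    rw [show g' * d.w * g'⁻¹ = m * (k' * d.w * k'⁻¹) * m⁻¹ by rw [hg']; group]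
    rcases hk'w with e | e <;> rw [e]
    · exact Or.inl (by rw [hmz]; group)
    · refine Or.inr ?_
      rw [← conj_inv, hmz]
      group
  have hg'z : g' * d.z * g'⁻¹ = d.w ∨ g' * d.z * g'⁻¹ = d.w⁻¹ := by
    rcases d.line_z (hg'D _ d.z_mem) with h | h | h | h
    rotate_left 2
    · exact Or.inl h
    · exact Or.inr h
    all_goals exfalso
    · rcases hg'w with e | e
      · exact d.z_ne_w.1 (mul_left_cancel (mul_right_cancel (h.trans e.symm)))
      · refine d.z_ne_w.2 (mul_left_cancel (a := g') (mul_right_cancel (b := g'⁻¹) ?_))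
        rw [h, ← conj_inv, e, inv_inv]
    · rcases hg'w with e | e
      · refine d.z_ne_w.2 (mul_left_cancel (a := g') (mul_right_cancel (b := g'⁻¹) ?_))
        rw [h, ← conj_inv, e]
      · exact d.z_ne_w.1 (mul_left_cancel (mul_right_cancel (h.trans e.symm)))
  obtain ⟨hjz, hjw⟩ := d.swap (i := 1) (k := 1) (by decide) (by decide) hjC hjj hj1
  have hjD : j ∈ Subgroup.normalizer (d.D : Set G) :=
    (d.mixed 1 1 (by decide) (by decide)).2 (Subgroup.mem_centralizer_singleton_iff.2 hjC)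
  have hg'N : g' ∈ Subgroup.normalizer (d.D : Set G) := mem_normalizer_of_conj_mem hg'D
  obtain ⟨u, hu⟩ : j * g' ∈ d.ι.range := (d.range_iff _).2 (by
    rw [show j * g' * d.ι zK * (j * g')⁻¹ = j * (g' * d.z * g'⁻¹) * j⁻¹ by rw [z]; group]
    rcases hg'z with e | e <;> rw [e]
    · exact hjw
    · rw [← conj_inv]
      rcases hjw with e' | e' <;> rw [e']
      · exact Or.inr rfl
      · exact Or.inl (inv_inv _))
  obtain ⟨x, rfl⟩ := d.ι_mem_normalizer (k := u) (by rw [hu]; exact mul_mem hjD hg'N)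
  have huM : j * g' ∈ M0 := by
    rw [← hu, nK, dK, map_mul, map_mul, map_mul, map_pow, map_pow, map_pow, map_pow]
    exact mul_mem (mul_mem (mul_mem (pow_mem hzM _) (pow_mem hwM _)) (pow_mem hx3M _)) (pow_mem hrM _)
  refine hjM0 ?_
  have := mul_mem huM (inv_mem hg'M)
  rwa [mul_inv_cancel_right] at this

end Data

end Cfsg.Agent.EightLocal
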