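import Mathlib
import Cfsg.Agent.Lib.EightLocal.Kp
import Cfsg.Agent.S3335

/-!
# The alternating group of degree eight as a model
-/

set_option autoImplicit false

namespace Cfsg.Agent.EightLocal

open Equiv

/-- the alternating group of degree eight -/
abbrev A8 : Subgroup (Perm (Fin 8)) := alternatingGroup (Fin 8)

/-- a shortcut instance -/
instance instDecidableEqA8 : DecidableEq A8 := inferInstance

set_option synthInstance.maxHeartbeats 200000
set_option synthInstance.maxSize 1024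

/-- the generators of the presentation -/
def gens : Fin 6 → A8 :=
  ![⟨c[0, 1, 2], Equiv.Perm.mem_alternatingGroup.2 (by decide +kernel)⟩, ⟨c[0, 1] * c[2, 3], Equiv.Perm.mem_alternatingGroup.2 (by decide +kernel)⟩,
    ⟨c[0, 1] * c[3, 4], Equiv.Perm.mem_alternatingGroup.2 (by decide +kernel)⟩, ⟨c[0, 1] * c[4, 5], Equiv.Perm.mem_alternatingGroup.2 (by decide +kernel)⟩,
    ⟨c[0, 1] * c[5, 6], Equiv.Perm.mem_alternatingGroup.2 (by decide +kernel)⟩, ⟨c[0, 1] * c[6, 7], Equiv.Perm.mem_alternatingGroup.2 (by decide +kernel)⟩]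

theorem gens_rels : (∀ i : Fin 6, i.val = 0 → gens i ^ 3 = 1) ∧
    (∀ i : Fin 6, 1 ≤ i.val → gens i ^ 2 = 1) ∧
    (∀ i j : Fin 6, j.val = i.val + 1 → (gens i * gens j) ^ 3 = 1) ∧
    (∀ i j : Fin 6, i.val + 1 < j.val → (gens i * gens j) ^ 2 = 1) := by
  refine ⟨?_, ?_, ?_, ?_⟩ <;> decide +kernel

theorem isSimpleGroup_A8 : IsSimpleGroup A8 := alternatingGroup.isSimpleGroup (by simp)

theorem injective_of_apply_ne_one {G : Type*} [Group G] (f : A8 →* G) {p : A8} (h : f p ≠ 1) :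
    Function.Injective f := by
  rw [← MonoidHom.ker_eq_bot_iff]
  refine (isSimpleGroup_A8.eq_bot_or_eq_top_of_normal _ inferInstance).resolve_right fun h' => h ?_
  exact MonoidHom.mem_ker.1 (h' ▸ Subgroup.mem_top p)

/-- A group with six elements satisfying the relations receives the alternating group of degree
eight. -/
theorem exists_hom {G : Type*} [Group G] (X : Fin 6 → G) (h0 : ∀ i : Fin 6, i.val = 0 → X i ^ 3 = 1)
    (h2 : ∀ i : Fin 6, 1 ≤ i.val → X i ^ 2 = 1)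
    (hb3 : ∀ i j : Fin 6, j.val = i.val + 1 → (X i * X j) ^ 3 = 1)
    (hb2 : ∀ i j : Fin 6, i.val + 1 < j.val → (X i * X j) ^ 2 = 1) :
    ∃ φ : A8 →* G, ∀ i, φ (gens i) = X i := by
  classical
  let rels : Set (FreeGroup (Fin 6)) :=
    {g : FreeGroup (Fin 6) | ∃ i : Fin 6, i.val = 0 ∧ g = FreeGroup.of i ^ 3} ∪
      {g | ∃ i : Fin 6, 1 ≤ i.val ∧ g = FreeGroup.of i ^ 2} ∪
      {g | ∃ i j : Fin 6, j.val = i.val + 1 ∧ g = (FreeGroup.of i * FreeGroup.of j) ^ 3} ∪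
      {g | ∃ i j : Fin 6, i.val + 1 < j.val ∧ g = (FreeGroup.of i * FreeGroup.of j) ^ 2}
  have lift_ok : ∀ {K : Type _} [Group K] (Y : Fin 6 → K),
      ((∀ i : Fin 6, i.val = 0 → Y i ^ 3 = 1) ∧ (∀ i : Fin 6, 1 ≤ i.val → Y i ^ 2 = 1) ∧
        (∀ i j : Fin 6, j.val = i.val + 1 → (Y i * Y j) ^ 3 = 1) ∧
        (∀ i j : Fin 6, i.val + 1 < j.val → (Y i * Y j) ^ 2 = 1)) →
      ∀ r ∈ rels, FreeGroup.lift Y r = 1 := by
    intro K _ Y hY r hr
    rcases hr with ((⟨i, hi, rfl⟩ | ⟨i, hi, rfl⟩) | ⟨i, j, hij, rfl⟩) | ⟨i, j, hij, rfl⟩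
    · simpa using hY.1 i hi
    · simpa using hY.2.1 i hi
    · simpa using hY.2.2.1 i j hij
    · simpa using hY.2.2.2 i j hij
  have hA : ∀ r ∈ rels, FreeGroup.lift gens r = 1 := by
    rintro r (((⟨i, hi, rfl⟩ | ⟨i, hi, rfl⟩) | ⟨i, j, hij, rfl⟩) | ⟨i, j, hij, rfl⟩)
    · simpa using gens_rels.1 i hi
    · simpa using gens_rels.2.1 i hi
    · simpa using gens_rels.2.2.1 i j hij
    · simpa using gens_rels.2.2.2 i j hij
  have hG : ∀ r ∈ rels, FreeGroup.lift X r = 1 := lift_ok X ⟨h0, h2, hb3, hb2⟩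
  let f := PresentedGroup.toGroup (rels := rels) hA
  obtain ⟨ψ⟩ : Nonempty (PresentedGroup rels ≃* A8) := S3335.result 8 (by norm_num)
  let f' : A8 →* A8 := f.comp ψ.symm.toMonoidHom
  have hne : f' (ψ (PresentedGroup.of 0)) ≠ 1 := by
    show f (ψ.symm (ψ (PresentedGroup.of 0))) ≠ 1
    rw [ψ.symm_apply_apply, PresentedGroup.toGroup.of]
    decide +kernel
  have hinj := injective_of_apply_ne_one f' hne
  have hb' : Function.Bijective f' := ⟨hinj, Finite.injective_iff_surjective.1 hinj⟩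
  have hb : Function.Bijective f := by
    have : (f : PresentedGroup rels → A8) = f' ∘ ψ := by
      funext x
      show f x = f (ψ.symm (ψ x))
      rw [ψ.symm_apply_apply]
    rw [this]
    exact hb'.comp ψ.bijective
  let e := MulEquiv.ofBijective f hb
  refine ⟨(PresentedGroup.toGroup (rels := rels) hG).comp e.symm.toMonoidHom, fun i => ?_⟩
  have he : e (PresentedGroup.of i) = gens i := PresentedGroup.toGroup.of hA
  show PresentedGroup.toGroup (rels := rels) hG (e.symm (gens i)) = X i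
  rw [← he, e.symm_apply_apply, PresentedGroup.toGroup.of]

/-- `Sym 3 × Sym 5` on eight points -/
def sum35 : Perm (Fin 3) × Perm (Fin 5) →* Perm (Fin 8) :=
  (Equiv.permCongrHom (finSumFinEquiv (m := 3) (n := 5))).toMonoidHom.comp
    (Equiv.Perm.sumCongrHom (Fin 3) (Fin 5))

theorem sum35_mem (k : Kp) : sum35 k.1 ∈ A8 := by
  have h : Perm.sign k.1.1 * Perm.sign k.1.2 = 1 := k.2
  rw [Equiv.Perm.mem_alternatingGroup]
  show Perm.sign ((finSumFinEquiv (m := 3) (n := 5)).permCongr (Perm.sumCongr k.1.1 k.1.2)) = 1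
  rw [Perm.sign_permCongr, Perm.sign_sumCongr, h]

/-- the embedding of `(Sym 3 × Sym 5)⁺` -/
def jK : Kp →* A8 := (sum35.comp Kp.subtype).codRestrict A8 sum35_mem

theorem jK_injective : Function.Injective jK := by
  intro a b h
  apply Subtype.ext
  have h' : sum35 a.1 = sum35 b.1 := congrArg Subtype.val h
  exact Equiv.Perm.sumCongrHom_injective ((Equiv.permCongrHom (finSumFinEquiv (m := 3) (n := 5))).injective h')

def z0 : A8 := ⟨c[0, 1, 2], Equiv.Perm.mem_alternatingGroup.2 (by decide +kernel)⟩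
def w0 : A8 := ⟨c[5, 6, 7], Equiv.Perm.mem_alternatingGroup.2 (by decide +kernel)⟩
def u0 : A8 := ⟨c[0, 5] * c[1, 6] * c[2, 7] * c[3, 4], Equiv.Perm.mem_alternatingGroup.2 (by decide +kernel)⟩
def y0 : A8 := ⟨c[0, 1, 2] * c[5, 6, 7], Equiv.Perm.mem_alternatingGroup.2 (by decide +kernel)⟩

theorem jK_values : jK zK = gens 0 ∧ gens 0 = z0 ∧ jK wK = gens 4 * gens 5 ∧ jK wK = w0 ∧
    jK x3K = gens 2 ∧ jK x4K = gens 3 ∧ jK x5K = gens 4 ∧ jK x6K = gens 5 ∧
    jK (dK 1 1) = y0 ∧ u0 * z0 * u0⁻¹ = w0 := by decide +kernel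

theorem y0_centralizer : Function.Injective (fun x : Fin 3 × Fin 3 × Fin 2 =>
      z0 ^ (x.1 : ℕ) * w0 ^ (x.2.1 : ℕ) * u0 ^ (x.2.2 : ℕ)) ∧
    ∀ x : Fin 3 × Fin 3 × Fin 2, z0 ^ (x.1 : ℕ) * w0 ^ (x.2.1 : ℕ) * u0 ^ (x.2.2 : ℕ) * y0 =
      y0 * (z0 ^ (x.1 : ℕ) * w0 ^ (x.2.1 : ℕ) * u0 ^ (x.2.2 : ℕ)) := by
  constructor <;> decide +kernel

/-- Conjugate elements centralised by an odd permutation are conjugate by an even one. -/
theorem conj_even {a b : A8} {τ : Perm (Fin 8)} (hτ : Perm.sign τ = -1)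
    (hτb : τ * b.1 * τ⁻¹ = b.1) (h : IsConj a.1 b.1) : ∃ g : A8, g * a * g⁻¹ = b := by
  obtain ⟨σ, hσ⟩ := isConj_iff.1 h
  rcases Int.units_eq_one_or (Perm.sign σ) with hs | hs
  · exact ⟨⟨σ, hs⟩, Subtype.ext hσ⟩
  · refine ⟨⟨τ * σ, ?_⟩, Subtype.ext ?_⟩
    · rw [Equiv.Perm.mem_alternatingGroup, map_mul, hτ, hs]; decide
    · show τ * σ * a.1 * (τ * σ)⁻¹ = b.1
      rw [show τ * σ * a.1 * (τ * σ)⁻¹ = τ * (σ * a.1 * σ⁻¹) * τ⁻¹ by group, hσ, hτb]

/-- The two classes of elements of order three. -/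
theorem three_classes {p : A8} (h3 : p ^ 3 = 1) (h1 : p ≠ 1) :
    ∃ g : A8, g * p * g⁻¹ = z0 ∨ g * p * g⁻¹ = y0 := by
  haveI : Fact (Nat.Prime 3) := ⟨Nat.prime_three⟩
  have h3' : p.1 ^ 3 = 1 := congrArg Subtype.val h3
  have ho : orderOf p.1 = 3 := orderOf_eq_prime h3' fun h => h1 (Subtype.ext h)
  obtain ⟨n, hn⟩ := Equiv.Perm.cycleType_prime_order (σ := p.1) (by rw [ho]; exact Nat.prime_three)
  rw [ho] at hn
  have hle := p.1.sum_cycleType_le
  rw [hn, Multiset.sum_replicate, Fintype.card_fin, smul_eq_mul] at hle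
  have hn' : n = 0 ∨ n = 1 := by omega
  rcases hn' with rfl | rfl
  · have hconj : IsConj p.1 z0.1 := by
      rw [Equiv.Perm.isConj_iff_cycleType_eq, hn]; decide +kernel
    obtain ⟨g, hg⟩ := conj_even (a := p) (b := z0) (τ := c[3, 4]) (by decide +kernel) (by decide +kernel) hconj
    exact ⟨g, Or.inl hg⟩
  · have hconj : IsConj p.1 y0.1 := by
      rw [Equiv.Perm.isConj_iff_cycleType_eq, hn]; decide +kernel
    obtain ⟨g, hg⟩ := conj_even (a := p) (b := y0) (τ := c[3, 4]) (by decide +kernel) (by decide +kernel) hconj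
    exact ⟨g, Or.inr hg⟩

end Cfsg.Agent.EightLocal
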