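import Mathlib
import Cfsg.Agent.Lib.EightLocal.Key
import Cfsg.Agent.Lib.EightLocal.Model

/-!
# Building the alternating group of degree eight
-/

set_option autoImplicit false

namespace Cfsg.Agent.EightLocal

open Equiv

universe u

set_option synthInstance.maxHeartbeats 200000
set_option synthInstance.maxSize 1024

def v1'K : Kp := ⟨(1, c[2, 3] * c[4, 1]), by decide +kernel⟩
def e0K : Kp := ⟨(1, c[1, 2] * c[3, 4]), by decide +kernel⟩
def e1K : Kp := ⟨(1, c[0, 2] * c[3, 4]), by decide +kernel⟩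

/-- six words in two letters -/
def words (k c : Kp) : List Kp :=
  [k, k * k * c * k * c * c, k * k * k * k * c * k * c, k * k * c * k * c,
    k * k * k * c * c * k, k * c * k * c * c * k]

theorem words_hit : ∀ k : Kp, k.1.1 = 1 → k ≠ 1 → k ≠ wK → k ≠ wK⁻¹ →
    ∃ x ∈ words k wK, ∃ m : Fin 3,
      x = wK ^ (m : ℕ) * rK * (wK ^ (m : ℕ))⁻¹ ∨ x = wK ^ (m : ℕ) * e0K * (wK ^ (m : ℕ))⁻¹ ∨
        x = wK ^ (m : ℕ) * e1K * (wK ^ (m : ℕ))⁻¹ := by decide +kernel

theorem kr_spec : ∀ k : Kp, k * k = 1 → k * zK * k⁻¹ = zK⁻¹ → k * wK * k⁻¹ = wK →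
    k * rK = rK * k →
    k * v1K * k⁻¹ = v1'K ∧ k * v1K ≠ v1K * k := by decide +kernel

theorem e0_of_e1 : ∃ m : Fin 3, e0K = wK ^ (m : ℕ) * rK * e1K * (wK ^ (m : ℕ) * rK)⁻¹ := by
  decide +kernel

theorem k56_spec : ∀ k : Kp, k * k = 1 → k * zK * k⁻¹ = zK⁻¹ → k * wK * k⁻¹ = wK⁻¹ →
    k * rK = rK * k → k * v1K = v1K * k ∧ k * v1'K = v1'K * k := by decide +kernel

theorem x2_spec : ∀ b : Kp, b = v1K ∨ b = v1'K → b * b = 1 ∧ (wK * b) ^ 3 = 1 ∧ (b * rK) ^ 3 = 1 ∧
    b * zK = zK * b ∧ b ≠ 1 := by decide +kernel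

/-- The alternating group of degree eight inside a group with the three-local structure. -/
structure Emb (G : Type u) [Group G] [Finite G] where
  /-- the Sylow 3-subgroup -/
  D : Subgroup G
  /-- the Sylow 3-subgroup, bundled -/
  P : Sylow 3 G
  hDP : D = P
  hcard : Nat.card D = 9
  hC : Subgroup.centralizer (D : Set G) = D
  /-- the embedding -/
  φ : A8 →* G
  inj : Function.Injective φ
  mem_D : ∀ x : G, x ∈ D ↔ ∃ i k : Fin 3, x = φ (z0 ^ (i : ℕ) * w0 ^ (k : ℕ))
  card_z : Nat.card (Subgroup.centralizer ({φ z0} : Set G)) = 180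
  card_y : Nat.card (Subgroup.centralizer ({φ y0} : Set G)) = 18
  cent_three : ∀ p : A8, p ^ 3 = 1 → p ≠ 1 → Subgroup.centralizer ({φ p} : Set G) ≤ φ.range
  normalizer_D : Subgroup.normalizer (D : Set G) ≤ φ.range
  normalizer_w : ∀ x : G, x * φ w0 * x⁻¹ = φ w0 ∨ x * φ w0 * x⁻¹ = (φ w0)⁻¹ → x ∈ φ.range

namespace Data

variable {G : Type u} [Group G] [Finite G] (d : Data G)

theorem exists_x2 : ∃ b : Kp, (b = v1K ∨ b = v1'K) ∧
    d.ι e0K * d.κ b = d.κ b * d.ι e0K := by
  obtain ⟨k, h1, h2, h3, h4, hk⟩ := d.exists_commute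
  obtain ⟨kr, hkr⟩ : d.ι rK ∈ d.κ.range := (d.κ_range_iff _).2 (Or.inr (by
    rw [← map_inv, ← map_mul, ← map_mul, rK_wK, map_inv]))
  obtain ⟨hkrv, hkrn⟩ : kr * v1K * kr⁻¹ = v1'K ∧ kr * v1K ≠ v1K * kr := by
    refine kr_spec kr (d.κ_injective ?_) (d.κ_injective ?_) (d.κ_injective ?_) (d.κ_injective ?_)
    · rw [map_mul, hkr, ← map_mul, show rK * rK = 1 by decide +kernel, map_one, map_one]
    · rw [map_mul, map_mul, map_inv, map_inv, hkr, κ_zK, ← map_inv, ← map_mul, ← map_mul, rK_wK, map_inv]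
    · rw [map_mul, map_mul, map_inv, hkr, κ_wK, ← map_inv, ← map_mul, ← map_mul, rK_zK]
    · rw [map_mul, map_mul, hkr, κ_rK, ← map_mul, ← map_mul, show rK * x3K = x3K * rK by decide +kernel]
  set S := d.CV.comap d.ι with hS
  have hwS : wK ∈ S := d.w_mem_CV
  have hwordS : ∀ x ∈ words k wK, x ∈ S := by
    intro x hx
    have hk' : k ∈ S := hk
    simp only [words, List.mem_cons, List.not_mem_nil, or_false] at hx
    rcases hx with rfl | rfl | rfl | rfl | rfl | rfl <;>
      repeat (first | exact hk' | exact hwS | apply mul_mem)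
  obtain ⟨x, hx, m, hm⟩ := words_hit k h1 h2 h3 h4
  have hxS := hwordS x hx
  have hback : ∀ b : Kp, x = wK ^ (m : ℕ) * b * (wK ^ (m : ℕ))⁻¹ → b ∈ S := by
    intro b hb
    have : b = (wK ^ (m : ℕ))⁻¹ * x * wK ^ (m : ℕ) := by rw [hb]; group
    rw [this]
    exact mul_mem (mul_mem (inv_mem (pow_mem hwS _)) hxS) (pow_mem hwS _)
  rcases hm with hm | hm | hm
  · exfalso
    have h := (d.mem_CV.1 (hback _ hm)).1
    rw [← hkr, ← map_mul, ← map_mul] at h
    exact hkrn (d.κ_injective h)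
  · exact ⟨v1K, Or.inl rfl, (d.mem_CV.1 (hback _ hm)).1⟩
  · refine ⟨v1'K, Or.inr rfl, ?_⟩
    obtain ⟨n, hn⟩ := e0_of_e1
    have hc : Commute (d.ι e1K) (d.κ v1K) := (d.mem_CV.1 (hback _ hm)).1
    have hc2 : Commute (d.ι rK * d.ι e1K * (d.ι rK)⁻¹) (d.κ v1'K) := by
      have := hc.map (MulAut.conj (d.ι rK)).toMonoidHom
      simp only [MulEquiv.coe_toMonoidHom, MulAut.conj_apply] at this
      rwa [← hkr, ← map_inv, ← map_mul, ← map_mul, hkrv, map_inv, hkr] at this
    have hc3 : Commute (d.w ^ (n : ℕ)) (d.κ v1'K) := by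
      refine Commute.pow_left ?_ _
      rw [← κ_zK, commute_iff_eq, ← map_mul, ← map_mul, ← (x2_spec v1'K (Or.inr rfl)).2.2.2.1]
    rw [hn, map_mul, map_mul, map_inv, map_mul, map_pow]
    have := (hc3.mul_left hc2).mul_left hc3.inv_left
    convert this.eq using 2 <;> simp [mul_assoc]

theorem exists_emb (d : Data G) : Nonempty (Emb G) := by
  classical
  obtain ⟨b, hb, hbe⟩ := d.exists_x2
  obtain ⟨hb2, hwb, hbr, hbz, hb1⟩ := x2_spec b hb
  have hi : ∀ {x y : Kp}, x = y → d.ι x = d.ι y := congrArg _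
  let X : Fin 6 → G := ![d.z, d.κ b, d.ι x3K, d.ι x4K, d.ι x5K, d.ι x6K]
  have h56 : ∀ k : Kp, (k = x5K ∨ k = x6K) → Commute (d.κ b) (d.ι k) := by
    intro k hk
    have hk' : k * k = 1 ∧ k * zK * k⁻¹ = zK⁻¹ ∧ k * wK * k⁻¹ = wK⁻¹ ∧ k * x3K = x3K * k := by
      rcases hk with rfl | rfl <;> decide +kernel
    obtain ⟨k1, k2, k3, k4⟩ := hk'
    obtain ⟨u, hu⟩ : d.ι k ∈ d.κ.range := (d.κ_range_iff _).2 (Or.inr (by
      rw [← map_inv, ← map_mul, ← map_mul, k3, map_inv]))
    obtain ⟨e1, e2⟩ : u * v1K = v1K * u ∧ u * v1'K = v1'K * u := by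
      refine k56_spec u (d.κ_injective ?_) (d.κ_injective ?_) (d.κ_injective ?_) (d.κ_injective ?_)
      · rw [map_mul, hu, ← map_mul, k1, map_one, map_one]
      · rw [map_mul, map_mul, map_inv, map_inv, hu, κ_zK, ← map_inv, ← map_mul, ← map_mul, k3, map_inv]
      · rw [map_mul, map_mul, map_inv, map_inv, hu, κ_wK, ← map_inv, ← map_mul, ← map_mul, k2, map_inv]
      · rw [map_mul, map_mul, hu, κ_rK, ← map_mul, ← map_mul, k4]
    rw [commute_iff_eq, ← hu, ← map_mul, ← map_mul]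
    rcases hb with rfl | rfl
    · rw [e1]
    · rw [e2]
  have h4 : Commute (d.κ b) (d.ι x4K) := by
    rw [show x4K = e0K * x6K by decide +kernel, map_mul]
    exact (show Commute (d.κ b) (d.ι e0K) from hbe.symm).mul_right (h56 _ (Or.inr rfl))
  have hbb : d.κ b * d.κ b = 1 := by rw [← map_mul, hb2, map_one]
  have hpw : ∀ k : Kp, k ^ 2 = 1 → d.ι k ^ 2 = 1 := fun k hk => by rw [← map_pow, hk, map_one]
  have hsq2 : ∀ {a c : G}, Commute a c → a ^ 2 = 1 → c ^ 2 = 1 → (a * c) ^ 2 = 1 := by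
    intro a c h ha hc
    rw [h.mul_pow, ha, hc, one_mul]
  obtain ⟨φ, hφ⟩ := exists_hom X (by
      intro i hi0
      obtain rfl : i = 0 := Fin.ext hi0
      exact d.z_cube)
    (by
      intro i hi1
      fin_cases i <;> simp only [X] at hi1 ⊢ <;> first
        | exact absurd hi1 (by decide)
        | exact (sq _).trans hbb
        | exact hpw _ (by decide +kernel))
    (by
      intro i j hij
      fin_cases i <;> fin_cases j <;> first
        | exact absurd hij (by decide)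
        | (show (d.z * d.κ b) ^ 3 = 1
           rw [← κ_wK, ← map_mul, ← map_pow, hwb, map_one])
        | (show (d.κ b * d.ι x3K) ^ 3 = 1
           rw [← κ_rK, ← map_mul, ← map_pow, hbr, map_one])
        | (show (d.ι x3K * d.ι x4K) ^ 3 = 1
           rw [← map_mul, ← map_pow, show (x3K * x4K) ^ 3 = 1 by decide +kernel, map_one])
        | (show (d.ι x4K * d.ι x5K) ^ 3 = 1
           rw [← map_mul, ← map_pow, show (x4K * x5K) ^ 3 = 1 by decide +kernel, map_one])
        | (show (d.ι x5K * d.ι x6K) ^ 3 = 1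
           rw [← map_mul, ← map_pow, show (x5K * x6K) ^ 3 = 1 by decide +kernel, map_one]))
    (by
      intro i j hij
      fin_cases i <;> fin_cases j <;> first
        | exact absurd hij (by decide)
        | exact hsq2 h4 ((sq _).trans hbb) (hpw _ (by decide +kernel))
        | exact hsq2 (h56 _ (Or.inl rfl)) ((sq _).trans hbb) (hpw _ (by decide +kernel))
        | exact hsq2 (h56 _ (Or.inr rfl)) ((sq _).trans hbb) (hpw _ (by decide +kernel))
        | (show (d.ι _ * d.ι _) ^ 2 = 1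
           rw [← map_mul]
           exact hpw _ (by decide +kernel)))
  obtain ⟨e1, e2, e3, e4, e5, e6, e7, e8, e9, e10⟩ := jK_values
  have hz0 : φ z0 = d.z := by rw [← e2, hφ]; rfl
  have hw0 : φ w0 = d.w := by
    rw [← e4, e3, map_mul, hφ, hφ]
    show d.ι x5K * d.ι x6K = d.w
    rw [← map_mul, show x5K * x6K = wK by decide +kernel]
  have hinj : Function.Injective φ := injective_of_apply_ne_one φ (p := z0) (by rw [hz0]; exact d.z_ne_one)
  have hrange : d.ι.range ≤ φ.range := by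
    have hle : (φ.comp jK).range ≤ d.ι.range := by
      rintro _ ⟨k, rfl⟩
      rw [d.range_iff, show d.ι zK = φ (jK zK) by rw [e1, hφ]; rfl]
      simp only [MonoidHom.comp_apply, ← map_mul, ← map_inv]
      exact (line_iff k).imp (fun h => by rw [h]) (fun h => by rw [h])
    have hcard : Nat.card (φ.comp jK).range = Nat.card d.ι.range := by
      rw [← Nat.card_congr (MonoidHom.ofInjective (f := φ.comp jK) (hinj.comp jK_injective)).toEquiv,
        ← Nat.card_congr (MonoidHom.ofInjective d.inj).toEquiv]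
    rw [← Subgroup.eq_of_le_of_card_ge hle hcard.symm.le, MonoidHom.range_comp]
    exact Subgroup.map_le_range φ _
  have hNz : ∀ x : G, (x * d.z * x⁻¹ = d.z ∨ x * d.z * x⁻¹ = d.z⁻¹) → x ∈ φ.range := fun x hx =>
    hrange ((d.range_iff x).2 hx)
  have hu0 : φ u0 * d.z * (φ u0)⁻¹ = d.w := by
    rw [← hz0, ← hw0, ← map_inv, ← map_mul, ← map_mul, e10]
  have hNw : ∀ x : G, (x * φ w0 * x⁻¹ = φ w0 ∨ x * φ w0 * x⁻¹ = (φ w0)⁻¹) → x ∈ φ.range := by
    intro x hx
    rw [hw0] at hx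
    have h : (φ u0)⁻¹ * x * φ u0 ∈ φ.range := by
      refine hNz _ ?_
      rw [show (φ u0)⁻¹ * x * φ u0 * d.z * ((φ u0)⁻¹ * x * φ u0)⁻¹ =
        (φ u0)⁻¹ * (x * (φ u0 * d.z * (φ u0)⁻¹) * x⁻¹) * φ u0 by group, hu0]
      rcases hx with hx | hx <;> rw [hx, ← hu0]
      · exact Or.inl (by group)
      · exact Or.inr (by group)
    have := mul_mem (mul_mem (show φ u0 ∈ φ.range from ⟨u0, rfl⟩) h) (inv_mem (show φ u0 ∈ φ.range from ⟨u0, rfl⟩))
    rwa [show φ u0 * ((φ u0)⁻¹ * x * φ u0) * (φ u0)⁻¹ = x by group] at this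
  have hy0 : φ y0 = d.ι (dK 1 1) := by
    rw [show y0 = z0 * w0 by decide +kernel, map_mul, hz0, hw0, z, w, ← map_mul]
    exact hi (by decide +kernel)
  have hy18 : Nat.card (Subgroup.centralizer ({φ y0} : Set G)) = 18 := by
    rw [hy0]; exact (d.mixed 1 1 (by decide) (by decide)).1
  have hCy : Subgroup.centralizer ({φ y0} : Set G) ≤ φ.range := by
    have hle : (Subgroup.centralizer ({y0} : Set A8)).map φ ≤ Subgroup.centralizer ({φ y0} : Set G) := by
      rintro _ ⟨p, hp, rfl⟩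
      have hp' : p * y0 = y0 * p := Subgroup.mem_centralizer_singleton_iff.1 hp
      rw [Subgroup.mem_centralizer_singleton_iff, ← map_mul, ← map_mul, hp']
    have hge : 18 ≤ Nat.card ((Subgroup.centralizer ({y0} : Set A8)).map φ) := by
      rw [Subgroup.card_map_of_injective hinj]
      let f : Fin 3 × Fin 3 × Fin 2 → Subgroup.centralizer ({y0} : Set A8) := fun x =>
        ⟨z0 ^ (x.1 : ℕ) * w0 ^ (x.2.1 : ℕ) * u0 ^ (x.2.2 : ℕ),
          Subgroup.mem_centralizer_singleton_iff.2 (y0_centralizer.2 x)⟩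
      have := Nat.card_le_card_of_injective f (fun a b h => y0_centralizer.1 (congrArg Subtype.val h))
      simpa using this
    rw [← Subgroup.eq_of_le_of_card_ge hle (by omega)]
    exact Subgroup.map_le_range φ _
  refine ⟨⟨d.D, d.P, d.hDP, d.hcard, d.hC, φ, hinj, ?_, ?_, hy18, ?_, ?_, hNw⟩⟩
  · intro x
    rw [d.mem_D]
    refine exists_congr fun i => exists_congr fun k => ?_
    rw [dK, map_mul, map_pow, map_pow, map_mul, map_pow, map_pow, hz0, hw0]
  · rw [hz0]; exact d.card_C_z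
  · intro p hp3 hp1 x hx
    obtain ⟨g, hg⟩ := three_classes hp3 hp1
    rw [Subgroup.mem_centralizer_singleton_iff] at hx
    have hmem : φ g * x * (φ g)⁻¹ ∈ φ.range := by
      have hc : Commute (φ g * x * (φ g)⁻¹) (φ (g * p * g⁻¹)) := by
        rw [map_mul, map_mul, map_inv]
        exact (show Commute x (φ p) from hx).map (MulAut.conj (φ g)).toMonoidHom
      rcases hg with hg | hg <;> rw [hg] at hc
      · rw [hz0] at hc
        exact hNz _ (Or.inl (by rw [hc.eq]; group))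
      · exact hCy (Subgroup.mem_centralizer_singleton_iff.2 hc)
    have := mul_mem (mul_mem (inv_mem (show φ g ∈ φ.range from ⟨g, rfl⟩)) hmem) (show φ g ∈ φ.range from ⟨g, rfl⟩)
    rwa [show (φ g)⁻¹ * (φ g * x * (φ g)⁻¹) * φ g = x by group] at this
  · intro n hn
    rcases d.line_z ((Subgroup.mem_normalizer_iff.1 hn _).1 d.z_mem) with h | h | h | h
    · exact hNz _ (Or.inl h)
    · exact hNz _ (Or.inr h)
    all_goals
      have hm : (φ u0)⁻¹ * n ∈ φ.range := by
        refine hNz _ ?_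
        rw [show (φ u0)⁻¹ * n * d.z * ((φ u0)⁻¹ * n)⁻¹ = (φ u0)⁻¹ * (n * d.z * n⁻¹) * φ u0 by group, h, ← hu0]
        first
        | (left; group; done)
        | (right; group)
      have := mul_mem (show φ u0 ∈ φ.range from ⟨u0, rfl⟩) hm
      rwa [mul_inv_cancel_left] at this

end Data

end Cfsg.Agent.EightLocal
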