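import Mathlib
import Cfsg.Agent.Lib.EightLocal.Model

/-!
# Computations with permutations of eight points
-/

set_option autoImplicit false

namespace Cfsg.Agent.EightLocal

open Equiv

set_option synthInstance.maxHeartbeats 200000
set_option synthInstance.maxSize 1024
set_option maxHeartbeats 0

/-- an even permutation as an element of the alternating group -/
abbrev mk8 (p : Perm (Fin 8)) (h : Perm.sign p = 1) : A8 := ⟨p, Equiv.Perm.mem_alternatingGroup.2 h⟩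

def a0 : A8 := mk8 (c[0, 1] * c[2, 3]) (by decide +kernel)
def b0 : A8 := mk8 (c[0, 2] * c[1, 3]) (by decide +kernel)
def a0' : A8 := mk8 (c[4, 5] * c[6, 7]) (by decide +kernel)
def b0' : A8 := mk8 (c[4, 6] * c[5, 7]) (by decide +kernel)
def u1 : A8 := mk8 (c[0, 1] * c[4, 5]) (by decide +kernel)
def b1 : A8 := mk8 (c[0, 4] * c[1, 5]) (by decide +kernel)
def g1 : A8 := mk8 (c[2, 4] * c[3, 5]) (by decide +kernel)
def t0 : A8 := mk8 (c[0, 1] * c[2, 3] * c[4, 5] * c[6, 7]) (by decide +kernel)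
def T1 : A8 := mk8 (c[0, 4] * c[1, 5] * c[2, 6] * c[3, 7]) (by decide +kernel)
def c123 : A8 := mk8 (c[1, 2, 3]) (by decide +kernel)
def y1 : A8 := mk8 (c[0, 2, 4] * c[1, 3, 5]) (by decide +kernel)

/-- a product of two disjoint transpositions -/
def IsS (p : A8) : Prop := p * p = 1 ∧ p.1.support.card = 4

instance (p : A8) : Decidable (IsS p) := by unfold IsS; infer_instance

/-- `Sym 4 × Sym 4` on eight points -/
def sum44 : Perm (Fin 4) × Perm (Fin 4) →* Perm (Fin 8) :=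
  (Equiv.permCongrHom (finSumFinEquiv (m := 4) (n := 4))).toMonoidHom.comp
    (Equiv.Perm.sumCongrHom (Fin 4) (Fin 4))

/-- A permutation centralising `(0 1)(2 3)` preserves `{0, 1, 2, 3}`. -/
theorem split (g : A8) (h : g * a0 = a0 * g) : ∃ p q, g.1 = sum44 (p, q) := by
  set e := (finSumFinEquiv (m := 4) (n := 4))
  have hfix : ∀ i : Fin 8, a0.1 i = i ↔ 4 ≤ i.val := by decide +kernel
  have hg : ∀ i : Fin 8, 4 ≤ i.val ↔ 4 ≤ (g.1 i).val := by
    intro i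
    rw [← hfix, ← hfix]
    have h' : g.1 (a0.1 i) = a0.1 (g.1 i) := congrArg (fun x : A8 => x.1 i) h
    rw [← h']
    exact g.1.injective.eq_iff.symm
  have hmem : e.symm.permCongr g.1 ∈ (Equiv.Perm.sumCongrHom (Fin 4) (Fin 4)).range := by
    refine Equiv.Perm.mem_sumCongrHom_range_of_perm_mapsTo_inl ?_
    rintro _ ⟨a, rfl⟩
    rcases hx : e.symm.permCongr g.1 (Sum.inl a) with b | b
    · exact ⟨b, rfl⟩
    · exfalso
      have h2 := hg (e (Sum.inl a))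
      have h3 : g.1 (e (Sum.inl a)) = e (Sum.inr b) := by
        rw [← hx, Equiv.permCongr_apply, Equiv.symm_symm, Equiv.apply_symm_apply]
      rw [h3] at h2
      have ha' : (e (Sum.inl a)).val = a.val := rfl
      have hb' : (e (Sum.inr b)).val = 4 + b.val := rfl
      rw [ha', hb'] at h2
      omega
  obtain ⟨⟨p, q⟩, hpq⟩ := hmem
  refine ⟨p, q, ?_⟩
  show g.1 = e.permCongr (Equiv.Perm.sumCongrHom (Fin 4) (Fin 4) (p, q))
  rw [hpq]
  ext i
  simp

theorem sign_sum44 (p q : Perm (Fin 4)) : Perm.sign (sum44 (p, q)) = Perm.sign p * Perm.sign q := by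
  show Perm.sign ((finSumFinEquiv (m := 4) (n := 4)).permCongr (Perm.sumCongr p q)) = _
  rw [Perm.sign_permCongr, Perm.sign_sumCongr]

theorem perm8_values : a0 * b0 = b0 * a0 ∧ w0 * a0 = a0 * w0 ∧ w0 * b0 = b0 * w0 ∧
    IsS a0 ∧ IsS b0 ∧ IsS (a0 * b0) ∧ IsS u1 ∧
    u1 * a0 = a0 * u1 ∧ u1 * b0 * u1 = a0 * b0 ∧ u1 * u1 = 1 ∧
    a0 * t0 = t0 * a0 ∧ b0 * t0 = t0 * b0 ∧ b1 * t0 = t0 * b1 ∧ y1 * t0 = t0 * y1 ∧
    u1 * t0 = t0 * u1 ∧ g1 * t0 = t0 * g1 ∧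
    y1 ^ 3 = 1 ∧ y1 ≠ 1 ∧ t0 * t0 = 1 ∧ t0 ≠ 1 ∧ t0.1.support.card = 8 ∧
    b0 * b1 = y1⁻¹ ∧ g1⁻¹ * u1 * g1 = a0 ∧ g1⁻¹ * b1 * g1 = b0 ∧
    y1 * (y1 * a0 * y1⁻¹) * y1⁻¹ = u1 ∧ a0 * (y1 * a0 * y1⁻¹) = (y1 * a0 * y1⁻¹) * a0 ∧
    a0' * a0 = a0 * a0' ∧ b0' * a0 = a0 * b0' ∧ a0' * b0' = b0' * a0' ∧
    IsS a0' ∧ IsS b0' ∧ b0 ≠ a0 := by decide +kernel

/-- The two classes of involutions. -/
theorem two_classes {p : A8} (h2 : p * p = 1) (h1 : p ≠ 1) :
    ∃ g : A8, g * p * g⁻¹ = a0 ∨ g * p * g⁻¹ = t0 := by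
  haveI : Fact (Nat.Prime 2) := ⟨Nat.prime_two⟩
  have h2' : p.1 ^ 2 = 1 := by rw [sq]; exact congrArg Subtype.val h2
  have ho : orderOf p.1 = 2 := orderOf_eq_prime h2' fun h => h1 (Subtype.ext h)
  obtain ⟨n, hn⟩ := Equiv.Perm.cycleType_prime_order (σ := p.1) (by rw [ho]; exact Nat.prime_two)
  rw [ho] at hn
  have hle := p.1.sum_cycleType_le
  rw [hn, Multiset.sum_replicate, Fintype.card_fin, smul_eq_mul] at hle
  have hs : Perm.sign p.1 = 1 := Equiv.Perm.mem_alternatingGroup.1 p.2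
  rw [Equiv.Perm.sign_of_cycleType, hn] at hs
  have hn' : n = 0 ∨ n = 1 ∨ n = 2 ∨ n = 3 := by omega
  rcases hn' with rfl | rfl | rfl | rfl
  · simp at hs
    exact absurd hs (by decide)
  · have hconj : IsConj p.1 a0.1 := by
      rw [Equiv.Perm.isConj_iff_cycleType_eq, hn]; decide +kernel
    obtain ⟨g, hg⟩ := conj_even (a := p) (b := a0) (τ := c[4, 5]) (by decide +kernel) (by decide +kernel) hconj
    exact ⟨g, Or.inl hg⟩
  · simp at hs
    exact absurd hs (by decide)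
  · have hconj : IsConj p.1 t0.1 := by
      rw [Equiv.Perm.isConj_iff_cycleType_eq, hn]; decide +kernel
    obtain ⟨g, hg⟩ := conj_even (a := p) (b := t0) (τ := c[4, 5]) (by decide +kernel) (by decide +kernel) hconj
    exact ⟨g, Or.inr hg⟩

theorem y1_conj : ∃ g : A8, g * y1 * g⁻¹ = y0 := by
  refine conj_even (a := y1) (b := y0) (τ := c[3, 4]) (by decide +kernel) (by decide +kernel) ?_
  rw [Equiv.Perm.isConj_iff_cycleType_eq]
  decide +kernel


end Cfsg.Agent.EightLocal
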