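import Mathlib
import Cfsg.Agent.Lib.EightLocal.Perm8Base

/-!
# Computations with permutations of eight points
-/

set_option autoImplicit false

namespace Cfsg.Agent.EightLocal

open Equiv

set_option synthInstance.maxHeartbeats 200000
set_option synthInstance.maxSize 1024
set_option maxHeartbeats 0

theorem CV_spec : ∀ p q : Perm (Fin 4), Perm.sign p * Perm.sign q = 1 →
    sum44 (p, q) * a0.1 = a0.1 * sum44 (p, q) → sum44 (p, q) * b0.1 = b0.1 * sum44 (p, q) →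
    ((sum44 (p, q) * w0.1 * (sum44 (p, q))⁻¹ = w0.1 ∨ sum44 (p, q) * w0.1 * (sum44 (p, q))⁻¹ = w0.1⁻¹) →
      sum44 (p, q) * w0.1 = w0.1 * sum44 (p, q)) ∧
    (sum44 (p, q) * t0.1 = t0.1 * sum44 (p, q) → sum44 (p, q) * sum44 (p, q) = 1) ∧
    (sum44 (p, q) * sum44 (p, q) = 1 → (sum44 (p, q)).support.card = 4 →
      sum44 (p, q) = a0.1 ∨ sum44 (p, q) = b0.1 ∨ sum44 (p, q) = a0.1 * b0.1 ∨
        sum44 (p, q) = a0'.1 ∨ sum44 (p, q) = b0'.1 ∨ sum44 (p, q) = a0'.1 * b0'.1) := by decide +kernel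

/-- What one needs about the centraliser of the four group. -/
theorem CV_elt (g : A8) (ha : g * a0 = a0 * g) (hb : g * b0 = b0 * g) :
    ((g * w0 * g⁻¹ = w0 ∨ g * w0 * g⁻¹ = w0⁻¹) → g * w0 = w0 * g) ∧
    (g * t0 = t0 * g → g * g = 1) ∧
    (IsS g → g = a0 ∨ g = b0 ∨ g = a0 * b0 ∨ g = a0' ∨ g = b0' ∨ g = a0' * b0') := by
  obtain ⟨p, q, hpq⟩ := split g ha
  have hs : Perm.sign p * Perm.sign q = 1 := by
    rw [← sign_sum44, ← hpq]; exact Equiv.Perm.mem_alternatingGroup.1 g.2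
  obtain ⟨h1, h2, h3⟩ := CV_spec p q hs (by rw [← hpq]; exact congrArg Subtype.val ha)
    (by rw [← hpq]; exact congrArg Subtype.val hb)
  rw [← hpq] at h1 h2 h3
  refine ⟨fun h => Subtype.ext (h1 (h.imp (congrArg Subtype.val) (congrArg Subtype.val))),
    fun h => Subtype.ext (h2 (congrArg Subtype.val h)), fun h => ?_⟩
  rcases h3 (congrArg Subtype.val h.1) h.2 with h' | h' | h' | h' | h' | h'
  · exact Or.inl (Subtype.ext h')
  · exact Or.inr (Or.inl (Subtype.ext h'))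
  · exact Or.inr (Or.inr (Or.inl (Subtype.ext h')))
  · exact Or.inr (Or.inr (Or.inr (Or.inl (Subtype.ext h'))))
  · exact Or.inr (Or.inr (Or.inr (Or.inr (Or.inl (Subtype.ext h')))))
  · exact Or.inr (Or.inr (Or.inr (Or.inr (Or.inr (Subtype.ext h')))))

theorem V_product : ∀ x ∈ [a0', b0', a0' * b0'], ∀ y ∈ [a0', b0', a0' * b0'],
    x * y ≠ a0 ∧ x * y ≠ b0 ∧ x * y ≠ a0 * b0 := by
  intro x hx y hy
  simp only [List.mem_cons, List.not_mem_nil, or_false] at hx hy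
  rcases hx with rfl | rfl | rfl <;> rcases hy with rfl | rfl | rfl <;>
    refine ⟨?_, ?_, ?_⟩ <;> decide +kernel

theorem D_conj : ∀ i k : Fin 3,
    ((z0 ^ (i : ℕ) * w0 ^ (k : ℕ))⁻¹ * a0 * (z0 ^ (i : ℕ) * w0 ^ (k : ℕ)) ∈ [a0, b0, a0 * b0]) ∧
    ((z0 ^ (i : ℕ) * w0 ^ (k : ℕ))⁻¹ * b0 * (z0 ^ (i : ℕ) * w0 ^ (k : ℕ)) ∈ [a0, b0, a0 * b0]) := by
  decide +kernel

theorem O_spec : ∀ p q : Perm (Fin 4), Perm.sign p * Perm.sign q = 1 →
    sum44 (p, q) * a0.1 = a0.1 * sum44 (p, q) →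
    sum44 (p, q) ^ 12 = 1 ∧
      (sum44 (p, q) ^ 3 = 1 → sum44 (p, q) ≠ 1 → ∃ v ∈ [a0'.1, b0'.1],
        sum44 (p, q) * v * (sum44 (p, q))⁻¹ * v ≠ 1 ∧
          (sum44 (p, q) * v * (sum44 (p, q))⁻¹ * v) * (sum44 (p, q) * v * (sum44 (p, q))⁻¹ * v) = 1) := by
  decide +kernel

theorem O_elt (g : A8) (ha : g * a0 = a0 * g) : g ^ 12 = 1 ∧ (g ^ 3 = 1 → g ≠ 1 →
    ∃ v ∈ [a0', b0'], g * v * g⁻¹ * v ≠ 1 ∧ (g * v * g⁻¹ * v) * (g * v * g⁻¹ * v) = 1) := by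
  obtain ⟨p, q, hpq⟩ := split g ha
  have hs : Perm.sign p * Perm.sign q = 1 := by
    rw [← sign_sum44, ← hpq]; exact Equiv.Perm.mem_alternatingGroup.1 g.2
  obtain ⟨h1, h2⟩ := O_spec p q hs (by rw [← hpq]; exact congrArg Subtype.val ha)
  rw [← hpq] at h1 h2
  refine ⟨Subtype.ext h1, fun h3 hne => ?_⟩
  obtain ⟨v, hv, hc1, hc2⟩ := h2 (congrArg Subtype.val h3) (fun e => hne (Subtype.ext e))
  simp only [List.mem_cons, List.not_mem_nil, or_false] at hv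
  rcases hv with rfl | rfl
  · exact ⟨a0', by simp, fun e => hc1 (congrArg Subtype.val e), Subtype.ext hc2⟩
  · exact ⟨b0', by simp, fun e => hc1 (congrArg Subtype.val e), Subtype.ext hc2⟩


end Cfsg.Agent.EightLocal
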