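import Mathlib
import Cfsg.Agent.Lib.EightLocal.Perm8Base

/-!
# Computations with permutations of eight points
-/

set_option autoImplicit false

namespace Cfsg.Agent.EightLocal

open Equiv

set_option synthInstance.maxHeartbeats 200000
set_option synthInstance.maxSize 1024
set_option maxHeartbeats 0

/-- the parameters of the Sylow 2-subgroup -/
abbrev SP := Fin 2 × Fin 2 × Fin 2 × Fin 2 × Fin 2 × Fin 2

def gS (x : SP) (i : Fin 8) : Fin 8 :=
  let n : ℕ := i.val ^^^ (4 * x.2.2.2.2.2.val)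
  let n' : ℕ := if n % 4 < 2 then n ^^^ x.2.2.2.2.1.val else n
  let r : ℕ := if n' < 4 then n' ^^^ (x.1.val + 2 * x.2.1.val)
    else n' ^^^ (x.2.2.1.val + 2 * x.2.2.2.1.val)
  ⟨r % 8, Nat.mod_lt _ (by norm_num)⟩

/-- the inverse of `gS` -/
def gS' (x : SP) (i : Fin 8) : Fin 8 :=
  let n : ℕ := if i.val < 4 then i.val ^^^ (x.1.val + 2 * x.2.1.val)
    else i.val ^^^ (x.2.2.1.val + 2 * x.2.2.2.1.val)
  let n' : ℕ := if n % 4 < 2 then n ^^^ x.2.2.2.2.1.val else n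
  ⟨(n' ^^^ (4 * x.2.2.2.2.2.val)) % 8, Nat.mod_lt _ (by norm_num)⟩

theorem gS_inv : ∀ x : SP, ∀ i : Fin 8, gS' x (gS x i) = i ∧ gS x (gS' x i) = i := by decide +kernel

/-- the permutations of the Sylow 2-subgroup -/
def pS (x : SP) : Perm (Fin 8) :=
  ⟨gS x, gS' x, fun i => (gS_inv x i).1, fun i => (gS_inv x i).2⟩

set_option maxHeartbeats 0 in
theorem pS_sign : ∀ x : SP, Perm.sign (pS x) = 1 := by decide +kernel

/-- the elements of the Sylow 2-subgroup -/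
def fS (x : SP) : A8 := mk8 (pS x) (pS_sign x)

/-- recovers the parameters -/
def idxS (p : A8) : SP :=
  let at' : ℕ → ℕ := fun n => (p.1 ⟨n % 8, Nat.mod_lt _ (by norm_num)⟩).val
  let e : Fin 2 := if 4 ≤ at' 0 then 1 else 0
  let c : Fin 2 := if at' ((4 * e.val) ^^^ 2) = (at' (4 * e.val) ^^^ 2) then 0 else 1
  let v0 : ℕ := at' ((4 * e.val) ^^^ c.val)
  let v4 : ℕ := at' ((4 ^^^ (4 * e.val)) ^^^ c.val)
  (if v0 % 2 = 1 then 1 else 0, if 2 ≤ v0 then 1 else 0,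
    if v4 % 2 = 1 then 1 else 0, if 6 ≤ v4 then 1 else 0, c, e)

theorem idxS_fS : ∀ x : SP, idxS (fS x) = x := by decide +kernel

theorem fS_closed : (∀ x y : SP, fS (idxS (fS x * fS y)) = fS x * fS y) ∧
    (∀ x : SP, fS (idxS ((fS x)⁻¹)) = (fS x)⁻¹) := by constructor <;> decide +kernel

/-- a Sylow 2-subgroup of the alternating group of degree eight -/
def S0 : Subgroup A8 where
  carrier := Set.range fS
  one_mem' := ⟨(0, 0, 0, 0, 0, 0), by decide +kernel⟩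
  mul_mem' := by
    rintro _ _ ⟨x, rfl⟩ ⟨y, rfl⟩
    exact ⟨_, fS_closed.1 x y⟩
  inv_mem' := by
    rintro _ ⟨x, rfl⟩
    exact ⟨_, fS_closed.2 x⟩

theorem card_S0 : Nat.card S0 = 64 := by
  show Nat.card (Set.range fS) = 64
  rw [Nat.card_range_of_injective (fun a b h => by rw [← idxS_fS a, h, idxS_fS])]
  simp

theorem S0_facts : (∀ x : SP, fS x * t0 = t0 * fS x) ∧
    (∀ i j k l : Fin 2, fS (i, j, k, l, 0, 0) * a0 = a0 * fS (i, j, k, l, 0, 0) ∧
      fS (i, j, k, l, 0, 0) * b0 = b0 * fS (i, j, k, l, 0, 0)) := by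
  constructor <;> decide +kernel

/-- twelve elements covering the possible images of the four group -/
def kS (x : Fin 2 × Fin 3 × Fin 2) : A8 :=
  T1 ^ (x.1 : ℕ) * c123 ^ (x.2.1 : ℕ) * u1 ^ (x.2.2 : ℕ)

theorem S0_pairs : ∀ x : SP, IsS (fS x) → ∀ y : SP, IsS (fS y) → IsS (fS x * fS y) →
    16 ≤ (Finset.univ.filter fun s : SP => fS s * fS x = fS x * fS s ∧ fS s * fS y = fS y * fS s).card →
    ∃ k, kS k * a0 * (kS k)⁻¹ = fS x ∧ kS k * b0 * (kS k)⁻¹ = fS y := by decide +kernel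


end Cfsg.Agent.EightLocal
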