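import Mathlib
import Cfsg.Agent.Lib.EightLocal.Build
import Cfsg.Agent.Lib.EightLocal.Perm8CV
import Cfsg.Agent.Lib.EightLocal.Perm8S

/-!
# Local structure of a group containing the alternating group of degree eight
-/

set_option autoImplicit false

namespace Cfsg.Agent.EightLocal

universe u

namespace Emb

variable {G : Type u} [Group G] [Finite G] (E : Emb G)

theorem mem_range (p : A8) : E.φ p ∈ E.φ.range := ⟨p, rfl⟩

theorem map_ne_one {p : A8} (h : p ≠ 1) : E.φ p ≠ 1 := fun e => h (E.inj (e.trans (map_one _).symm))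

theorem eq_of_map {p q : A8} (h : E.φ p = E.φ q) : p = q := E.inj h

theorem conj_range {x : G} (g : A8) (h : E.φ g * x * (E.φ g)⁻¹ ∈ E.φ.range) : x ∈ E.φ.range := by
  have := mul_mem (mul_mem (inv_mem (E.mem_range g)) h) (E.mem_range g)
  rwa [show (E.φ g)⁻¹ * (E.φ g * x * (E.φ g)⁻¹) * E.φ g = x by group] at this

theorem orderOf_two {p : A8} (h2 : p * p = 1) (h1 : p ≠ 1) : orderOf (E.φ p) = 2 := by
  haveI : Fact (Nat.Prime 2) := ⟨Nat.prime_two⟩
  exact orderOf_eq_prime (by rw [sq, ← map_mul, h2, map_one]) (E.map_ne_one h1)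

theorem isS_ne_one {p : A8} (h : IsS p) : p ≠ 1 := fun e => by
  have := h.2
  rw [e, OneMemClass.coe_one, Equiv.Perm.support_one, Finset.card_empty] at this
  omega

theorem sq_of_D {a : G} (ha : a ∈ E.D) : a ^ 3 = 1 := by
  obtain ⟨i, k, rfl⟩ := (E.mem_D a).1 ha
  have h : ∀ i k : Fin 3, (z0 ^ (i : ℕ) * w0 ^ (k : ℕ)) ^ 3 = 1 := by decide +kernel
  rw [← map_pow, h, map_one]

theorem D_comm {a b : G} (ha : a ∈ E.D) (hb : b ∈ E.D) : a * b = b * a := by
  have : b ∈ Subgroup.centralizer (E.D : Set G) := E.hC.symm ▸ hb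
  exact Subgroup.mem_centralizer_iff.1 this a ha

include E in
theorem not_nine (s : G) (hs : orderOf s = 2) (X : Subgroup G) (hX : ∀ x ∈ X, Commute x s) :
    ¬ 9 ∣ Nat.card X := not_nine_dvd E.P E.hDP E.hcard E.hC hs X hX

/-- `D`-invariant subgroups of order prime to three lie in the alternating subgroup. -/
theorem le_range_of_invariant {O : Subgroup G} (hDO : E.D ≤ Subgroup.normalizer (O : Set G))
    (hO3 : ¬ 3 ∣ Nat.card O) : O ≤ E.φ.range := by
  haveI : IsMulCommutative E.D := ⟨⟨fun a b => Subtype.ext (E.D_comm a.2 b.2)⟩⟩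
  have hncyc : ¬ IsCyclic E.D := by
    intro h
    obtain ⟨v, hv⟩ := IsCyclic.exists_generator (α := E.D)
    have h9 : orderOf v = 9 := by rw [orderOf_eq_card_of_forall_mem_zpowers hv, E.hcard]
    have h3 : orderOf v ∣ 3 := orderOf_dvd_of_pow_eq_one (Subtype.ext (by simpa using E.sq_of_D v.2))
    rw [h9] at h3
    norm_num at h3
  have hcop : (Nat.card E.D).Coprime (Nat.card O) := by
    rw [E.hcard, show (9 : ℕ) = 3 ^ 2 by norm_num]
    exact ((Nat.prime_three.coprime_iff_not_dvd).2 hO3).pow_left 2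
  have key : O ⊓ E.φ.range = O := Coprime.eq_of_forall_centralizer_le hncyc hDO hcop inf_le_left (by
    intro a ha ha1 x hx
    obtain ⟨i, k, rfl⟩ := (E.mem_D a).1 ha
    refine ⟨(Subgroup.mem_inf.1 hx).1, E.cent_three _ ?_ ?_ (Subgroup.mem_inf.1 hx).2⟩
    · have := E.sq_of_D ha
      rw [← map_pow] at this
      exact E.inj (this.trans (map_one _).symm)
    · exact fun e => ha1 (by rw [e, map_one]))
  exact key.symm.le.trans inf_le_right

/-- The centraliser of the four group lies in the alternating subgroup. -/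
theorem CV_le : Subgroup.centralizer ({E.φ a0, E.φ b0} : Set G) ≤ E.φ.range := by
  set C := Subgroup.centralizer ({E.φ a0, E.φ b0} : Set G) with hCdef
  have hmem : ∀ x, x ∈ C ↔ x * E.φ a0 = E.φ a0 * x ∧ x * E.φ b0 = E.φ b0 * x := fun x => by
    rw [hCdef, Subgroup.mem_centralizer_iff]
    simp only [Set.mem_insert_iff, Set.mem_singleton_iff, forall_eq_or_imp, forall_eq]
    exact and_congr eq_comm eq_comm
  have pv := perm8_values
  have hwC : E.φ w0 ∈ C := (hmem _).2 ⟨by rw [← map_mul, ← map_mul, pv.2.1],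
    by rw [← map_mul, ← map_mul, pv.2.2.1]⟩
  have h9 : ¬ 9 ∣ Nat.card C :=
    E.not_nine _ (E.orderOf_two pv.2.2.2.1.1 (isS_ne_one pv.2.2.2.1)) C fun x hx => ((hmem x).1 hx).1
  have hw3 : orderOf (E.φ w0) = 3 := by
    haveI : Fact (Nat.Prime 3) := ⟨Nat.prime_three⟩
    exact orderOf_eq_prime (by rw [← map_pow, show w0 ^ 3 = 1 by decide +kernel, map_one])
      (E.map_ne_one (by decide +kernel))
  obtain ⟨O, hO, hO3, hOw⟩ := three_complement C hw3 hwC h9 (by
    intro x hx h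
    obtain ⟨p, rfl⟩ := E.normalizer_w x h
    obtain ⟨h1, h2⟩ := (hmem _).1 hx
    rw [← map_mul, ← map_mul] at h1 h2
    rw [← map_mul, ← map_mul, (CV_elt p (E.inj h1) (E.inj h2)).1 ?_]
    simp only [← map_inv, ← map_mul] at h
    exact h.imp (fun e => E.inj e) (fun e => E.inj e))
  have hcomm : ∀ c ∈ C, ∀ v ∈ [a0, b0, a0 * b0], c * E.φ v = E.φ v * c := by
    intro c hc v hv
    simp only [List.mem_cons, List.not_mem_nil, or_false] at hv
    obtain ⟨h1, h2⟩ := (hmem c).1 hc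
    rcases hv with rfl | rfl | rfl
    · exact h1
    · exact h2
    · rw [map_mul]; exact ((show Commute c _ from h1).mul_right h2).eq
  have hDC : ∀ a ∈ E.D, ∀ c ∈ C, a * c * a⁻¹ ∈ C := by
    intro a ha c hc
    obtain ⟨i, k, rfl⟩ := (E.mem_D a).1 ha
    set p := z0 ^ (i : ℕ) * w0 ^ (k : ℕ)
    have key : ∀ v, p⁻¹ * v * p ∈ [a0, b0, a0 * b0] →
        E.φ p * c * (E.φ p)⁻¹ * E.φ v = E.φ v * (E.φ p * c * (E.φ p)⁻¹) := by
      intro v hv
      have h := hcomm c hc _ hv
      rw [map_mul, map_mul, map_inv] at h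
      calc E.φ p * c * (E.φ p)⁻¹ * E.φ v
          = E.φ p * (c * ((E.φ p)⁻¹ * E.φ v * E.φ p)) * (E.φ p)⁻¹ := by group
        _ = E.φ p * ((E.φ p)⁻¹ * E.φ v * E.φ p * c) * (E.φ p)⁻¹ := by rw [h]
        _ = _ := by group
    exact (hmem _).2 ⟨key _ (D_conj i k).1, key _ (D_conj i k).2⟩
  have hOle : O ≤ E.φ.range := E.le_range_of_invariant (fun a ha =>
    mem_normalizer_of_conj_mem fun o ho => (hO _).2
      ⟨hDC a ha o ((hO o).1 ho).1, by
        rw [← MulAut.conj_apply, MulEquiv.orderOf_eq]; exact ((hO o).1 ho).2⟩) hO3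
  intro x hx
  obtain ⟨o, ho, n, rfl⟩ := hOw x hx
  exact mul_mem (hOle ho) (zpow_mem (E.mem_range w0) n)

theorem mem_range_of_commute {x : G} (h1 : x * E.φ a0 = E.φ a0 * x) (h2 : x * E.φ b0 = E.φ b0 * x) :
    x ∈ E.φ.range := E.CV_le (Subgroup.mem_centralizer_iff.2 (by
  rintro y (rfl | rfl)
  · exact h1.symm
  · exact h2.symm))

theorem card_C_y1 : Nat.card (Subgroup.centralizer ({E.φ y1} : Set G)) = 18 := by
  obtain ⟨g, hg⟩ := y1_conj
  have h := card_centralizer_conj (E.φ g) (E.φ y1)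
  rw [← map_inv, ← map_mul, ← map_mul, hg, E.card_y] at h
  exact h.symm

theorem card_C_w0 : Nat.card (Subgroup.centralizer ({E.φ w0} : Set G)) = 180 := by
  rw [← jK_values.2.2.2.2.2.2.2.2.2, map_mul, map_mul, map_inv, card_centralizer_conj, E.card_z]

theorem orderOf_y1 : orderOf (E.φ y1) = 3 := by
  haveI : Fact (Nat.Prime 3) := ⟨Nat.prime_three⟩
  have pv := perm8_values
  exact orderOf_eq_prime (by rw [← map_pow, show y1 ^ 3 = 1 by decide +kernel, map_one])
    (E.map_ne_one (by decide +kernel))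

/-- The two classes of involutions do not fuse. -/
theorem not_fused (h : G) : h * E.φ a0 * h⁻¹ ≠ E.φ t0 := by
  intro he
  set X := Subgroup.centralizer ({E.φ t0} : Set G) with hX
  have ht : orderOf (E.φ t0) = 2 := E.orderOf_two (by decide +kernel) (by decide +kernel)
  have h9 := E.not_nine _ ht X fun x hx => Subgroup.mem_centralizer_singleton_iff.1 hx
  have ha : h * E.φ w0 * h⁻¹ ∈ X := by
    rw [hX, Subgroup.mem_centralizer_singleton_iff, ← he]
    have hc : Commute (E.φ w0) (E.φ a0) := by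
      rw [commute_iff_eq, ← map_mul, ← map_mul, perm8_values.2.1]
    exact (hc.map (MulAut.conj h).toMonoidHom).eq
  have hb : E.φ y1 ∈ X := by
    rw [hX, Subgroup.mem_centralizer_singleton_iff, ← map_mul, ← map_mul,
      show y1 * t0 = t0 * y1 by decide +kernel]
  have ow : orderOf (h * E.φ w0 * h⁻¹) = 3 := by
    haveI : Fact (Nat.Prime 3) := ⟨Nat.prime_three⟩
    rw [← MulAut.conj_apply, MulEquiv.orderOf_eq]
    exact orderOf_eq_prime (by rw [← map_pow, show w0 ^ 3 = 1 by decide +kernel, map_one])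
      (E.map_ne_one (by decide +kernel))
  obtain ⟨m, -, hm⟩ := three_conj h9 ha hb ow E.orderOf_y1
  have hc : Nat.card (Subgroup.centralizer ({m * (h * E.φ w0 * h⁻¹) * m⁻¹} : Set G)) = 180 := by
    rw [card_centralizer_conj, card_centralizer_conj, E.card_C_w0]
  rcases hm with hm | hm <;> rw [hm] at hc
  · rw [E.card_C_y1] at hc; omega
  · rw [centralizer_singleton_inv, E.card_C_y1] at hc; omega

theorem s_conj {p : A8} (h : IsS p) : ∃ g : A8, g * p * g⁻¹ = a0 := by
  obtain ⟨g, hg | hg⟩ := two_classes h.1 (isS_ne_one h)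
  · exact ⟨g, hg⟩
  · exfalso
    have h' := congrArg (fun x : A8 => x.1.support.card) hg
    simp only [Subgroup.coe_mul, Subgroup.coe_inv, Equiv.Perm.card_support_conj] at h'
    rw [h.2, show t0.1.support.card = 8 by decide +kernel] at h'
    omega

theorem isS_of_fused {h : G} {p q : A8} (hp : IsS p) (he : h * E.φ p * h⁻¹ = E.φ q) : IsS q := by
  have hqq : q * q = 1 := E.inj (by
    rw [map_mul, ← he, show h * E.φ p * h⁻¹ * (h * E.φ p * h⁻¹) = h * (E.φ p * E.φ p) * h⁻¹ by group,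
      ← map_mul, hp.1, map_one]
    group)
  have hq1 : q ≠ 1 := by
    intro e
    rw [e, map_one, conj_eq_one_iff] at he
    exact E.map_ne_one (isS_ne_one hp) he
  obtain ⟨g, hg | hg⟩ := two_classes hqq hq1
  · refine ⟨hqq, ?_⟩
    have h' := congrArg (fun x : A8 => x.1.support.card) hg
    simp only [Subgroup.coe_mul, Subgroup.coe_inv, Equiv.Perm.card_support_conj] at h'
    rw [h', show a0.1.support.card = 4 by decide +kernel]
  · exfalso
    obtain ⟨f, hf⟩ := s_conj hp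
    refine E.not_fused (E.φ g * h * (E.φ f)⁻¹) ?_
    rw [← hf, ← hg]
    simp only [map_mul, map_inv]
    rw [← he]
    group

/-- The normaliser of a Sylow 2-subgroup of the alternating subgroup. -/
theorem normalizer_S0_le {h : G} (hh : ∀ s ∈ S0, h * E.φ s * h⁻¹ ∈ S0.map E.φ) : h ∈ E.φ.range := by
  classical
  have h4 : ∀ x : SP, ∃ y : SP, h * E.φ (fS x) * h⁻¹ = E.φ (fS y) := fun x => by
    obtain ⟨_, ⟨y, rfl⟩, hy⟩ := hh (fS x) ⟨x, rfl⟩
    exact ⟨y, hy.symm⟩
  choose f hf using h4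
  have ha : fS (1, 0, 0, 0, 0, 0) = a0 := by decide +kernel
  have hb : fS (0, 1, 0, 0, 0, 0) = b0 := by decide +kernel
  set x := f (1, 0, 0, 0, 0, 0) with hx
  set y := f (0, 1, 0, 0, 0, 0) with hy
  have hxa : h * E.φ a0 * h⁻¹ = E.φ (fS x) := by rw [← ha, hx, hf]
  have hyb : h * E.φ b0 * h⁻¹ = E.φ (fS y) := by rw [← hb, hy, hf]
  have pv := perm8_values
  have hS1 := E.isS_of_fused pv.2.2.2.1 hxa
  have hS2 := E.isS_of_fused pv.2.2.2.2.1 hyb
  have hS3 : IsS (fS x * fS y) := E.isS_of_fused pv.2.2.2.2.2.1 (h := h) (by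
    rw [map_mul, map_mul, ← hxa, ← hyb]; group)
  let F : Fin 2 × Fin 2 × Fin 2 × Fin 2 → SP := fun t => f (t.1, t.2.1, t.2.2.1, t.2.2.2, 0, 0)
  have hFi : Function.Injective F := by
    intro a b e
    have h1 := hf (a.1, a.2.1, a.2.2.1, a.2.2.2, 0, 0)
    have h2 := hf (b.1, b.2.1, b.2.2.1, b.2.2.2, 0, 0)
    rw [show f (a.1, a.2.1, a.2.2.1, a.2.2.2, 0, 0) = f (b.1, b.2.1, b.2.2.1, b.2.2.2, 0, 0) from e] at h1
    have h3 := congrArg idxS (E.inj (mul_left_cancel (mul_right_cancel (h1.trans h2.symm))))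
    rw [idxS_fS, idxS_fS] at h3
    simp only [Prod.mk.injEq] at h3
    obtain ⟨e1, e2, e3, e4, -, -⟩ := h3
    exact Prod.ext e1 (Prod.ext e2 (Prod.ext e3 e4))
  have hcount : 16 ≤ (Finset.univ.filter fun s : SP =>
      fS s * fS x = fS x * fS s ∧ fS s * fS y = fS y * fS s).card := by
    have hc := Finset.card_le_card_of_injOn F (s := Finset.univ)
      (t := Finset.univ.filter fun s : SP => fS s * fS x = fS x * fS s ∧ fS s * fS y = fS y * fS s)
      (fun t _ => by
        obtain ⟨c1, c2⟩ := S0_facts.2 t.1 t.2.1 t.2.2.1 t.2.2.2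
        rw [Finset.coe_filter]
        refine ⟨Finset.mem_univ _, E.inj ?_, E.inj ?_⟩
        · rw [map_mul, map_mul, ← hf, ← hxa]
          calc h * E.φ _ * h⁻¹ * (h * E.φ a0 * h⁻¹) = h * E.φ (fS (t.1, t.2.1, t.2.2.1, t.2.2.2, 0, 0) * a0) * h⁻¹ := by
                rw [map_mul]; group
            _ = _ := by rw [c1, map_mul]; group
        · rw [map_mul, map_mul, ← hf, ← hyb]
          calc h * E.φ _ * h⁻¹ * (h * E.φ b0 * h⁻¹) = h * E.φ (fS (t.1, t.2.1, t.2.2.1, t.2.2.2, 0, 0) * b0) * h⁻¹ := by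
                rw [map_mul]; group
            _ = _ := by rw [c2, map_mul]; group)
      hFi.injOn
    simpa using hc
  obtain ⟨k, hk1, hk2⟩ := S0_pairs x hS1 y hS2 hS3 hcount
  have hmem : (E.φ (kS k))⁻¹ * h ∈ E.φ.range := by
    have key : ∀ v q : A8, h * E.φ v * h⁻¹ = E.φ q → kS k * v * (kS k)⁻¹ = q →
        (E.φ (kS k))⁻¹ * h * E.φ v = E.φ v * ((E.φ (kS k))⁻¹ * h) := by
      intro v q e1 e2
      calc (E.φ (kS k))⁻¹ * h * E.φ v = (E.φ (kS k))⁻¹ * (h * E.φ v * h⁻¹) * h := by group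
        _ = _ := by rw [e1, ← e2, map_mul, map_mul, map_inv]; group
    exact E.mem_range_of_commute (key _ _ hxa hk1) (key _ _ hyb hk2)
  have := mul_mem (E.mem_range (kS k)) hmem
  rwa [mul_inv_cancel_left] at this

theorem card_A8 : Nat.card A8 = 20160 := by
  rw [nat_card_alternatingGroup, Nat.card_fin]
  rfl

include E in
/-- The Sylow 2-subgroups of the group have order sixty-four. -/
theorem not_128_dvd : ¬ 128 ∣ Nat.card G := by
  haveI : Fact (Nat.Prime 2) := ⟨Nat.prime_two⟩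
  intro h128
  set S := S0.map E.φ with hS
  have hSc : Nat.card S = 2 ^ 6 := by
    rw [hS, Subgroup.card_map_of_injective E.inj, card_S0]; norm_num
  obtain ⟨Q, hQ⟩ := (IsPGroup.of_card hSc).exists_le_sylow
  have hne : S.subgroupOf (Q : Subgroup G) ≠ ⊤ := by
    intro h
    rw [Subgroup.subgroupOf_eq_top] at h
    have hQc : Nat.card (Q : Subgroup G) = 2 ^ 6 := by rw [le_antisymm h hQ, hSc]
    have h7 : 2 ^ 7 ∣ Nat.card (Q : Subgroup G) := Q.pow_dvd_card_of_pow_dvd_card (by simpa using h128)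
    rw [hQc] at h7
    norm_num at h7
  haveI := Q.isPGroup'.isNilpotent
  have hlt := Group.normalizerCondition_of_isNilpotent (G := (Q : Subgroup G)) _ hne.lt_top
  obtain ⟨h, hh, hhS⟩ := SetLike.exists_of_lt hlt
  have hmove : ∀ s ∈ S0, h.1 * E.φ s * (h.1)⁻¹ ∈ S := by
    intro s hs
    have hsS : E.φ s ∈ S := ⟨s, hs, rfl⟩
    exact (Subgroup.mem_normalizer_iff.1 hh ⟨E.φ s, hQ hsS⟩).1 hsS
  obtain ⟨p, hp⟩ := E.normalizer_S0_le hmove
  set R := (Q : Subgroup G).comap E.φ with hR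
  have hle : S0 ≤ R := fun s hs => hQ ⟨s, hs, rfl⟩
  obtain ⟨n, hn⟩ := IsPGroup.iff_card.1 (Q.isPGroup'.comap_of_injective E.φ E.inj)
  have hd := Subgroup.card_subgroup_dvd_card R
  rw [hR, hn, card_A8] at hd
  have hn6 : n ≤ 6 := by
    by_contra hc
    push Not at hc
    have := (pow_dvd_pow 2 hc).trans hd
    norm_num at this
  have hRS : R = S0 := (Subgroup.eq_of_le_of_card_ge hle (by
    rw [hR, hn, card_S0]
    exact (Nat.pow_le_pow_right (by norm_num) hn6).trans (by norm_num))).symm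
  have hpR : p ∈ R := by rw [hR, Subgroup.mem_comap, hp]; exact h.2
  exact hhS (Subgroup.mem_subgroupOf.2 ⟨p, hRS ▸ hpR, hp⟩)

end Emb

end Cfsg.Agent.EightLocal
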