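import Mathlib
import Cfsg.Agent.Lib.EightLocal.Local
import Cfsg.Agent.S3331

/-!
# The centraliser of a fixed-point-free involution
-/

set_option autoImplicit false

namespace Cfsg.Agent.EightLocal

universe u

set_option synthInstance.maxHeartbeats 200000 in
set_option synthInstance.maxSize 1024 in
theorem sym3_fact : ∀ a c : Equiv.Perm (Fin 3), a * a = 1 → c ^ 3 = 1 → c ≠ 1 →
    a * (c * a * c⁻¹) = (c * a * c⁻¹) * a → a = 1 := by decide +kernel

theorem inv_of_fpf {R : Type*} [Group R] [Finite R] (f : R →* R) (h2 : ∀ x, f (f x) = x)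
    (hfp : ∀ x, f x = x → x = 1) (x : R) : f x = x⁻¹ := by
  have := MonoidHom.FixedPointFree.coe_eq_inv_of_involutive (φ := f) (fun g hg => hfp g hg) h2
  exact congrFun this x

theorem commute_mul_of_inverted {G : Type*} [Group G] {a b r : G} (h1 : a * r * a⁻¹ = r⁻¹)
    (h2 : b * r * b⁻¹ = r⁻¹) : a * b * r = r * (a * b) := by
  have e : a * b * r * (a * b)⁻¹ = r := by
    calc a * b * r * (a * b)⁻¹ = a * (b * r * b⁻¹) * a⁻¹ := by group
      _ = (a * r * a⁻¹)⁻¹ := by rw [h2]; group
      _ = r := by rw [h1, inv_inv]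
  calc a * b * r = a * b * r * (a * b)⁻¹ * (a * b) := by group
    _ = r * (a * b) := by rw [e]

namespace Emb

variable {G : Type u} [Group G] [Finite G] (E : Emb G)

theorem fix_sq {x : G} (h1 : x * E.φ a0 = E.φ a0 * x) (h2 : x * E.φ b0 = E.φ b0 * x)
    (h3 : x * E.φ t0 = E.φ t0 * x) : x * x = 1 := by
  obtain ⟨p, rfl⟩ := E.mem_range_of_commute h1 h2
  rw [← map_mul, ← map_mul] at h1 h2 h3
  rw [← map_mul, (CV_elt p (E.inj h1) (E.inj h2)).2.1 (E.inj h3), map_one]

theorem centT_le : Subgroup.centralizer ({E.φ t0} : Set G) ≤ E.φ.range := by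
  classical
  haveI : Fact (Nat.Prime 2) := ⟨Nat.prime_two⟩
  haveI : Fact (Nat.Prime 3) := ⟨Nat.prime_three⟩
  set t := E.φ t0 with htdef
  set H := Subgroup.centralizer ({t} : Set G) with hH
  have htt : t * t = 1 := by rw [htdef, ← map_mul, show t0 * t0 = 1 by decide +kernel, map_one]
  have ht1 : t ≠ 1 := E.map_ne_one (by decide +kernel)
  have hto : orderOf t = 2 := orderOf_eq_prime (by rw [sq, htt]) ht1
  have hmem : ∀ {x : G}, x ∈ H ↔ x * t = t * x := Subgroup.mem_centralizer_singleton_iff
  have hφH : ∀ p : A8, p * t0 = t0 * p → E.φ p ∈ H := fun p hp => hmem.2 (by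
    rw [htdef, ← map_mul, ← map_mul, hp])
  have pv := perm8_values
  have hyH := hφH y1 (by decide +kernel)
  have haH := hφH a0 (by decide +kernel)
  -- the centraliser of `y` in `H`
  have hK : ∀ x : G, x * E.φ y1 = E.φ y1 * x → x * t = t * x →
      x ∈ Subgroup.zpowers (E.φ (y1 * t0)) := by
    have ho6 : orderOf (E.φ (y1 * t0)) = 6 := by
      have hc : Commute (E.φ y1) t := hmem.1 hyH
      rw [map_mul]
      rw [hc.orderOf_mul_eq_mul_orderOf_of_coprime (by rw [E.orderOf_y1, hto]; decide),
        E.orderOf_y1, hto]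
    set K := Subgroup.centralizer ({E.φ y1} : Set G) ⊓ H with hKdef
    have hKm : E.φ (y1 * t0) ∈ K := by
      refine ⟨Subgroup.mem_centralizer_singleton_iff.2 ?_, hφH _ (by decide +kernel)⟩
      rw [← map_mul, ← map_mul, show y1 * t0 * y1 = y1 * (y1 * t0) by decide +kernel]
    have h18 : Nat.card K ∣ 18 := by
      rw [← E.card_C_y1]; exact Subgroup.card_dvd_of_le inf_le_left
    have h9 := E.not_nine t hto K fun x hx => hmem.1 (Subgroup.mem_inf.1 hx).2
    have h6 : 6 ∣ Nat.card K := by
      rw [← ho6, ← Nat.card_zpowers]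
      exact Subgroup.card_dvd_of_le (Subgroup.zpowers_le.2 hKm)
    have hK6 : Nat.card K = 6 := by
      have hle := Nat.le_of_dvd (by norm_num) h18
      obtain ⟨m, hm⟩ := h6
      rw [hm] at h18 h9 hle ⊢
      have hm3 : m ≤ 3 := by omega
      interval_cases m <;> first | omega | (exfalso; revert h18; decide) | (exfalso; exact h9 ⟨2, rfl⟩)
    have heq : Subgroup.zpowers (E.φ (y1 * t0)) = K :=
      Subgroup.eq_of_le_of_card_ge (Subgroup.zpowers_le.2 hKm) (by rw [Nat.card_zpowers, ho6, hK6])
    intro x h1 h2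
    rw [heq]
    exact ⟨Subgroup.mem_centralizer_singleton_iff.2 h1, hmem.2 h2⟩
  -- the quotient
  set tH : H := ⟨t, hmem.2 rfl⟩ with htH
  set T := Subgroup.zpowers tH with hT
  have htc : tH ∈ Subgroup.center H := Subgroup.mem_center_iff.2 fun g => Subtype.ext (hmem.1 g.2)
  haveI hTn : T.Normal := ⟨fun n hn g => by
    obtain ⟨k, rfl⟩ := Subgroup.mem_zpowers_iff.1 hn
    have hc : g * tH ^ k = tH ^ k * g :=
      Subgroup.mem_center_iff.1 (Subgroup.zpow_mem _ htc k) g
    rw [hc, mul_inv_cancel_right]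
    exact Subgroup.zpow_mem _ (Subgroup.mem_zpowers _) k⟩
  have hTc : Nat.card T = 2 := by rw [hT, Nat.card_zpowers, htH, Subgroup.orderOf_mk, hto]
  have hTval : ∀ c : H, c ∈ T → (c : G) = 1 ∨ (c : G) = t := by
    intro c hc
    rw [hT, mem_zpowers_iff_mem_range_orderOf, htH, Subgroup.orderOf_mk, hto] at hc
    simp only [Finset.mem_image, Finset.mem_range] at hc
    obtain ⟨i, hi, rfl⟩ := hc
    interval_cases i <;> simp
  set π := QuotientGroup.mk' T with hπ
  have hπs : Function.Surjective π := QuotientGroup.mk'_surjective T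
  set yH : H := ⟨E.φ y1, hyH⟩ with hyH'
  set ybar := π yH with hybar
  have hy3 : orderOf ybar = 3 := by
    refine orderOf_eq_prime ?_ ?_
    · rw [hybar, ← map_pow, show yH ^ 3 = 1 from Subtype.ext (by
        show E.φ y1 ^ 3 = 1
        rw [← map_pow, show y1 ^ 3 = 1 by decide +kernel, map_one]), map_one]
    · intro h
      rcases hTval _ ((QuotientGroup.eq_one_iff yH).1 h) with e | e
      · exact E.map_ne_one (by decide +kernel) e
      · exact (by decide +kernel : y1 ≠ t0) (E.inj e)
  set X := Subgroup.zpowers ybar with hX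
  have hXc : Nat.card X = 3 := by rw [hX, Nat.card_zpowers, hy3]
  have hC : Subgroup.centralizer (X : Set (H ⧸ T)) = X := by
    refine le_antisymm (fun q hq => ?_) (fun q hq => ?_)
    · obtain ⟨x, rfl⟩ := hπs q
      have hc : ybar * π x = π x * ybar :=
        Subgroup.mem_centralizer_iff.1 hq _ (Subgroup.mem_zpowers _)
      have hcT : yH⁻¹ * (x * yH * x⁻¹) ∈ T := by
        rw [← QuotientGroup.eq_one_iff]
        show π (yH⁻¹ * (x * yH * x⁻¹)) = 1
        rw [map_mul, map_mul, map_mul, map_inv, map_inv, ← hybar, ← hc]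
        group
      have hcomm : x.1 * E.φ y1 = E.φ y1 * x.1 := by
        rcases hTval _ hcT with e | e
        · have e' : (E.φ y1)⁻¹ * (x.1 * E.φ y1 * (x.1)⁻¹) = 1 := e
          rw [inv_mul_eq_one] at e'
          exact mul_inv_eq_iff_eq_mul.1 e'.symm
        · exfalso
          have e' : (E.φ y1)⁻¹ * (x.1 * E.φ y1 * (x.1)⁻¹) = t := e
          rw [inv_mul_eq_iff_eq_mul] at e'
          have h1 : (x.1 * E.φ y1 * (x.1)⁻¹) ^ 3 = 1 := by
            rw [conj_pow, ← map_pow, show y1 ^ 3 = 1 by decide +kernel, map_one]; group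
          rw [e', htdef, ← map_mul, ← map_pow] at h1
          exact (by decide +kernel : (y1 * t0) ^ 3 ≠ 1) (E.inj (h1.trans (map_one _).symm))
      obtain ⟨k, hk⟩ := Subgroup.mem_zpowers_iff.1 (hK x.1 hcomm (hmem.1 x.2))
      have hx : x = (yH * tH) ^ k := Subtype.ext (by
        rw [← hk, map_mul]; simp [hyH', htH, htdef])
      have ht' : π tH = 1 := (QuotientGroup.eq_one_iff tH).2 (Subgroup.mem_zpowers tH)
      rw [hx, map_zpow, map_mul, ht', mul_one]
      exact Subgroup.zpow_mem _ (Subgroup.mem_zpowers ybar) k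
    · rw [Subgroup.mem_centralizer_iff]
      intro r hr
      obtain ⟨i, rfl⟩ := Subgroup.mem_zpowers_iff.1 hq
      obtain ⟨j, rfl⟩ := Subgroup.mem_zpowers_iff.1 hr
      exact zpow_mul_comm ybar j i
  -- orders
  have hHq : Nat.card H = Nat.card (H ⧸ T) * 2 := by
    rw [Subgroup.card_eq_card_quotient_mul_card_subgroup T, hTc]
  have h128 : ¬ 128 ∣ Nat.card H := fun h =>
    E.not_128_dvd (h.trans (Subgroup.card_subgroup_dvd_card H))
  have hS0le : S0.map E.φ ≤ H ⊓ E.φ.range := by
    rintro _ ⟨s, ⟨x, rfl⟩, rfl⟩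
    exact ⟨hφH _ (S0_facts.1 x), E.mem_range _⟩
  have h64 : 64 ∣ Nat.card (H ⊓ E.φ.range : Subgroup G) := by
    have := Subgroup.card_dvd_of_le hS0le
    rwa [Subgroup.card_map_of_injective E.inj, card_S0] at this
  have h3 : 3 ∣ Nat.card (H ⊓ E.φ.range : Subgroup G) := by
    have := Subgroup.card_dvd_of_le (K := H ⊓ E.φ.range) (Subgroup.zpowers_le.2 ⟨hyH, E.mem_range y1⟩)
    rwa [Nat.card_zpowers, E.orderOf_y1] at this
  have h192 : 192 ∣ Nat.card (H ⊓ E.φ.range : Subgroup G) :=
    Nat.Coprime.mul_dvd_of_dvd_of_dvd (by norm_num : Nat.Coprime 64 3) h64 h3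
  suffices hle : Nat.card H ≤ 192 by
    have heq : H ⊓ E.φ.range = H :=
      Subgroup.eq_of_le_of_card_ge inf_le_left (hle.trans (Nat.le_of_dvd Nat.card_pos h192))
    exact heq.symm.le.trans inf_le_right
  have h64H : 64 ∣ Nat.card H := h64.trans (Subgroup.card_dvd_of_le inf_le_left)
  rcases S3331.result X hXc hC with ⟨N, hN, hnil, hcop, hq⟩ | ⟨N, hN, hNc, hN2, ⟨e⟩⟩ | ⟨⟨e⟩⟩
  · -- nilpotent-by-small
    haveI := hN
    haveI := hnil
    set M := N.comap π with hM
    haveI hMn : M.Normal := hN.comap π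
    let f : M →* N := (π.comp M.subtype).codRestrict N fun m => m.2
    have hfk : f.ker ≤ Subgroup.center M := by
      intro m hm
      have hm' : (m : H) ∈ T := (QuotientGroup.eq_one_iff (m : H)).1 (congrArg Subtype.val hm)
      refine Subgroup.mem_center_iff.2 fun g => Subtype.ext ?_
      exact Subgroup.mem_center_iff.1 ((Subgroup.zpowers_le.2 htc) hm') g
    haveI : Group.IsNilpotent M := Subgroup.isNilpotent_of_ker_le_center f hfk
    have hyN : ybar ∉ N := fun h => by
      have h1 := orderOf_dvd_natCard (⟨ybar, h⟩ : N)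
      rw [Subgroup.orderOf_mk, hy3] at h1
      exact (Nat.prime_three.coprime_iff_not_dvd.1 hcop.symm) h1
    -- the involution `a` lies in `M`
    set aH : H := ⟨E.φ a0, haH⟩ with haHdef
    set q := QuotientGroup.mk' N (π aH) with hqdef
    have hq2 : q * q = 1 := by
      rw [hqdef, ← map_mul, ← map_mul, show aH * aH = 1 from Subtype.ext (by
        show E.φ a0 * E.φ a0 = 1
        rw [← map_mul, show a0 * a0 = 1 by decide +kernel, map_one]), map_one, map_one]
    have haM : aH ∈ M := by
      rw [hM, Subgroup.mem_comap, ← QuotientGroup.eq_one_iff]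
      show q = 1
      rcases hq with hq | ⟨⟨e⟩⟩
      · have h1 : orderOf q ∣ 3 := hq ▸ orderOf_dvd_natCard q
        have h2 : orderOf q ∣ 2 := orderOf_dvd_of_pow_eq_one (by rw [sq, hq2])
        have := Nat.dvd_gcd h1 h2
        norm_num at this
        exact this
      · set c := QuotientGroup.mk' N ybar with hcdef
        have hac : aH * (yH * aH * yH⁻¹) = (yH * aH * yH⁻¹) * aH := Subtype.ext (by
          show E.φ a0 * (E.φ y1 * E.φ a0 * (E.φ y1)⁻¹) = E.φ y1 * E.φ a0 * (E.φ y1)⁻¹ * E.φ a0
          simp only [← map_inv, ← map_mul]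
          rw [show a0 * (y1 * a0 * y1⁻¹) = (y1 * a0 * y1⁻¹) * a0 by decide +kernel])
        apply e.injective
        rw [map_one]
        refine sym3_fact (e q) (e c) (by rw [← map_mul, hq2, map_one]) ?_ ?_ ?_
        · rw [← map_pow, hcdef, ← map_pow, orderOf_dvd_iff_pow_eq_one.1 (dvd_of_eq hy3), map_one, map_one]
        · intro h
          exact hyN ((QuotientGroup.eq_one_iff ybar).1 (e.injective (h.trans (map_one e).symm)))
        · have := congrArg (fun x => e (QuotientGroup.mk' N (π x))) hac
          simpa [hqdef, hcdef, hybar] using this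
    have huM : (⟨E.φ u1, hφH u1 (by decide +kernel)⟩ : H) ∈ M := by
      have h := hMn.conj_mem _ (hMn.conj_mem _ haM yH) yH
      convert h using 1
      apply Subtype.ext
      show E.φ u1 = E.φ y1 * (E.φ y1 * E.φ a0 * (E.φ y1)⁻¹) * (E.φ y1)⁻¹
      simp only [← map_inv, ← map_mul]
      rw [show y1 * (y1 * a0 * y1⁻¹) * y1⁻¹ = u1 by decide +kernel]
    have hMc : Nat.card M = 2 * Nat.card N := by
      have h1 : M.index = N.index := Subgroup.index_comap_of_surjective N hπs
      have h2 := Subgroup.card_mul_index M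
      have h3 := Subgroup.card_mul_index N
      have hpos : 0 < N.index := Nat.pos_of_ne_zero N.index_ne_zero_of_finite
      rw [h1, hHq, ← h3] at h2
      nlinarith
    have hodd : ∀ r : ℕ, r.Prime → r ∣ Nat.card M → r = 2 := by
      intro r hr hrd
      by_contra hr2
      haveI : Fact r.Prime := ⟨hr⟩
      let R : Sylow r M := default
      haveI hRn : (R : Subgroup M).Normal := inferInstance
      haveI : (R : Subgroup M).Characteristic := Sylow.characteristic_of_normal R hRn
      set RH := (R : Subgroup M).map M.subtype with hRHdef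
      haveI hRH : RH.Normal := ConjAct.normal_of_characteristic_of_normal
      obtain ⟨n, hn⟩ := IsPGroup.iff_card.1 R.isPGroup'
      have hRc : Nat.card RH = r ^ n := by
        rw [hRHdef, Subgroup.card_map_of_injective M.subtype_injective, hn]
      have hr3 : r ≠ 3 := by
        rintro rfl
        rw [hMc] at hrd
        rcases Nat.prime_three.dvd_mul.1 hrd with h | h
        · omega
        · exact (Nat.prime_three.coprime_iff_not_dvd.1 hcop.symm) h
      have hcop6 : (r ^ n).Coprime 6 := by
        refine Nat.Coprime.pow_left n ?_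
        rw [show (6 : ℕ) = 2 * 3 by norm_num]
        exact ((Nat.coprime_primes hr Nat.prime_two).2 hr2).mul_right
          ((Nat.coprime_primes hr Nat.prime_three).2 hr3)
      have hord : ∀ x : H, x ∈ RH → orderOf x.1 ∣ r ^ n := fun x hx => by
        rw [Subgroup.orderOf_coe, ← hRc, ← Subgroup.orderOf_mk x hx]
        exact orderOf_dvd_natCard _
      have hone : ∀ x : H, x ∈ RH → (x.1 : G) ^ 6 = 1 → x = 1 := fun x hx h6 => by
        have h1 := Nat.dvd_gcd (hord x hx) (orderOf_dvd_of_pow_eq_one h6)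
        rw [hcop6.gcd_eq_one, Nat.dvd_one, orderOf_eq_one_iff] at h1
        exact Subtype.ext h1
      -- commuting with involutions of `M`
      have hcomm : ∀ v : H, v ∈ M → v * v = 1 → ∀ x : H, x ∈ RH → x * v = v * x := by
        rintro v hv hvv _ ⟨x, hx, rfl⟩
        have hvp : IsPGroup 2 (Subgroup.zpowers (⟨v, hv⟩ : M)) := by
          obtain ⟨m, -, hm⟩ := (Nat.dvd_prime_pow Nat.prime_two (m := 1)).1 (show
            orderOf (⟨v, hv⟩ : M) ∣ 2 ^ 1 from orderOf_dvd_of_pow_eq_one (by
              rw [pow_one, sq]; exact Subtype.ext hvv))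
          exact IsPGroup.of_card (by rw [Nat.card_zpowers, hm])
        obtain ⟨S2, hS2⟩ := hvp.exists_le_sylow
        have hd : Disjoint (R : Subgroup M) (S2 : Subgroup M) :=
          IsPGroup.disjoint_of_ne r 2 hr2 _ _ R.isPGroup' S2.isPGroup'
        exact congrArg Subtype.val (Subgroup.commute_of_normal_of_disjoint _ _ hRn inferInstance hd
          x ⟨v, hv⟩ hx (hS2 (Subgroup.mem_zpowers _)))
      have hinv : ∀ b : H, b * b = 1 → (∀ x : H, x ∈ RH → x * b = b * x → x = 1) →
          ∀ x : H, x ∈ RH → b * x * b⁻¹ = x⁻¹ := by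
        intro b hb hfix x hx
        let f : RH →* RH := (MulAut.conjNormal (H := RH) b).toMonoidHom
        have := inv_of_fpf f (fun z => Subtype.ext (by
            show b * (b * (z : H) * b⁻¹) * b⁻¹ = z
            rw [inv_eq_of_mul_eq_one_right hb]
            calc b * (b * (z : H) * b) * b = b * b * z * (b * b) := by group
              _ = z := by rw [hb]; group))
          (fun z hz => by
            have hz' : b * (z : H) * b⁻¹ = z := congrArg Subtype.val hz
            exact Subtype.ext (hfix z z.2 (mul_inv_eq_iff_eq_mul.1 hz').symm)) ⟨x, hx⟩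
        exact congrArg Subtype.val this
      have hsix : ∀ x : H, x ∈ RH → (x.1 : G) * x.1 = 1 → x = 1 := fun x hx h =>
        hone x hx (by rw [show (6 : ℕ) = 2 * 3 by norm_num, pow_mul, sq, h, one_pow])
      have hb0 := hinv ⟨E.φ b0, hφH b0 (by decide +kernel)⟩ (Subtype.ext (by
          show E.φ b0 * E.φ b0 = 1
          rw [← map_mul, show b0 * b0 = 1 by decide +kernel, map_one]))
        (fun x hx hxb => hsix x hx (E.fix_sq
          (congrArg Subtype.val (hcomm aH haM (Subtype.ext (by
            show E.φ a0 * E.φ a0 = 1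
            rw [← map_mul, show a0 * a0 = 1 by decide +kernel, map_one])) x hx))
          (congrArg Subtype.val hxb) (hmem.1 x.2)))
      have hb1 := hinv ⟨E.φ b1, hφH b1 (by decide +kernel)⟩ (Subtype.ext (by
          show E.φ b1 * E.φ b1 = 1
          rw [← map_mul, show b1 * b1 = 1 by decide +kernel, map_one]))
        (fun x hx hxb => by
          refine hsix x hx ?_
          have h1 : Commute x.1 (E.φ u1) := congrArg Subtype.val (hcomm _ huM (Subtype.ext (by
            show E.φ u1 * E.φ u1 = 1
            rw [← map_mul, show u1 * u1 = 1 by decide +kernel, map_one])) x hx)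
          have h2 : Commute x.1 (E.φ b1) := congrArg Subtype.val hxb
          have h3 : Commute x.1 t := hmem.1 x.2
          have key : ∀ v v' : A8, Commute x.1 (E.φ v) → g1⁻¹ * v * g1 = v' →
              (E.φ g1)⁻¹ * x.1 * E.φ g1 * E.φ v' = E.φ v' * ((E.φ g1)⁻¹ * x.1 * E.φ g1) := by
            intro v v' hv e
            rw [← e, map_mul, map_mul, map_inv]
            calc (E.φ g1)⁻¹ * x.1 * E.φ g1 * ((E.φ g1)⁻¹ * E.φ v * E.φ g1)
                = (E.φ g1)⁻¹ * (x.1 * E.φ v) * E.φ g1 := by group
              _ = (E.φ g1)⁻¹ * (E.φ v * x.1) * E.φ g1 := by rw [hv.eq]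
              _ = _ := by group
          have := E.fix_sq (key u1 a0 h1 (by decide +kernel)) (key b1 b0 h2 (by decide +kernel))
            (key t0 t0 h3 (by decide +kernel))
          calc x.1 * x.1 = E.φ g1 * ((E.φ g1)⁻¹ * x.1 * E.φ g1 * ((E.φ g1)⁻¹ * x.1 * E.φ g1)) * (E.φ g1)⁻¹ := by group
            _ = 1 := by rw [this]; group)
      have hR1 : ∀ x : H, x ∈ RH → x = 1 := by
        intro x hx
        refine hone x hx ?_
        have h := congrArg Subtype.val (commute_mul_of_inverted (hb0 x hx) (hb1 x hx))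
        have h' : E.φ b0 * E.φ b1 * x.1 = x.1 * (E.φ b0 * E.φ b1) := h
        rw [← map_mul, show b0 * b1 = y1⁻¹ by decide +kernel, map_inv] at h'
        have hc : Commute (E.φ y1) x.1 := Commute.inv_left_iff.1 h'
        obtain ⟨k, hk⟩ := Subgroup.mem_zpowers_iff.1 (hK x.1 hc.symm.eq (hmem.1 x.2))
        rw [← hk, ← zpow_natCast, ← zpow_mul, mul_comm, zpow_mul, zpow_natCast, ← map_pow,
          show (y1 * t0) ^ 6 = 1 by decide +kernel, map_one, one_zpow]
      have hRdvd : r ∣ Nat.card (R : Subgroup M) := R.dvd_card_of_dvd_card hrd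
      have : Nat.card (R : Subgroup M) = 1 := by
        rw [← Subgroup.card_map_of_injective M.subtype_injective, ← hRHdef, Subgroup.card_eq_one]
        exact (Subgroup.eq_bot_iff_forall _).2 hR1
      rw [this] at hRdvd
      exact hr.one_lt.ne' (Nat.dvd_one.1 hRdvd)
    have hMpow : Nat.card M = 2 ^ (Nat.card M).primeFactorsList.length :=
      Nat.eq_prime_pow_of_unique_prime_dvd Nat.card_pos.ne' fun {r} hr hrd => hodd r hr hrd
    set m := (Nat.card M).primeFactorsList.length
    have hm6 : m ≤ 6 := by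
      by_contra hc
      push Not at hc
      exact h128 ((pow_dvd_pow 2 hc).trans (hMpow ▸ Subgroup.card_subgroup_dvd_card M))
    have hindex : Nat.card H = Nat.card M * Nat.card ((H ⧸ T) ⧸ N) := by
      rw [← Subgroup.card_mul_index M]
      congr 1
      exact Subgroup.index_comap_of_surjective N hπs
    rcases hq with hq | ⟨⟨e⟩⟩
    · rw [hindex, hq, hMpow]
      have := Nat.pow_le_pow_right (show 2 > 0 by norm_num) hm6
      omega
    · have h6 : Nat.card ((H ⧸ T) ⧸ N) = 6 := by
        rw [Nat.card_congr e.toEquiv, Nat.card_perm, Nat.card_fin]; rfl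
      rw [hindex, h6, hMpow]
      have hm5 : m ≤ 5 := by
        by_contra hc
        push Not at hc
        refine h128 ⟨2 ^ (m - 6) * 3, ?_⟩
        rw [hindex, h6, hMpow, show m = 6 + (m - 6) by omega, pow_add, show 6 + (m - 6) - 6 = m - 6 by omega]
        ring
      have := Nat.pow_le_pow_right (show 2 > 0 by norm_num) hm5
      omega
  · -- `Alt 5` on top
    exfalso
    haveI := hN
    have h60 : Nat.card ((H ⧸ T) ⧸ N) = 60 := by
      rw [Nat.card_congr e.toEquiv, nat_card_alternatingGroup, Nat.card_fin]; rfl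
    have hfix : ∀ n ∈ N, n * ybar = ybar * n → n = 1 := by
      intro n hn hc
      have hnX : n ∈ X := by
        rw [← hC, Subgroup.mem_centralizer_iff]
        intro r hr
        obtain ⟨i, rfl⟩ := Subgroup.mem_zpowers_iff.1 hr
        exact ((show Commute n ybar from hc).zpow_right i).eq.symm
      have h1 := Nat.dvd_gcd (orderOf_dvd_of_pow_eq_one (hN2 n hn))
        ((hXc ▸ (Subgroup.orderOf_mk n hnX ▸ orderOf_dvd_natCard _) : orderOf n ∣ 3))
      norm_num at h1
      exact h1
    have hmod := card_mod_three hy3 hfix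
    have hNp : ∀ {r : ℕ}, r.Prime → r ∣ Nat.card N → r = 2 := by
      intro r hr hrd
      haveI : Fact r.Prime := ⟨hr⟩
      obtain ⟨x, hx⟩ := exists_prime_orderOf_dvd_card' r hrd
      have h2 : orderOf x ∣ 2 := orderOf_dvd_of_pow_eq_one (Subtype.ext (hN2 x x.2))
      rw [hx] at h2
      exact (Nat.prime_dvd_prime_iff_eq hr Nat.prime_two).1 h2
    have hNpow := Nat.eq_prime_pow_of_unique_prime_dvd Nat.card_pos.ne' hNp
    set m := (Nat.card N).primeFactorsList.length
    rw [hHq, Subgroup.card_eq_card_quotient_mul_card_subgroup N, h60, hNpow] at h128 h64H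
    have hm3 : m = 3 := by
      rcases lt_trichotomy m 3 with h | h | h
      · exfalso
        interval_cases m <;> norm_num at h64H
      · exact h
      · exfalso
        refine h128 ⟨2 ^ (m - 4) * 15, ?_⟩
        rw [show m = 4 + (m - 4) by omega, pow_add, show 4 + (m - 4) - 4 = m - 4 by omega]
        ring
    rw [hNpow, hm3] at hmod
    norm_num at hmod
  · -- `PSL(2,7)`
    exfalso
    haveI : Fact (Nat.Prime 7) := ⟨by norm_num⟩
    have h168 : Nat.card (Matrix.ProjectiveSpecialLinearGroup (Fin 2) (ZMod 7)) = 168 := by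
      rw [PSL2.card_PSL]; simp
    rw [hHq, Nat.card_congr e.toEquiv, h168] at h64H
    norm_num at h64H

end Emb

end Cfsg.Agent.EightLocal
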