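import Mathlib
import Cfsg.Agent.Lib.EightLocal.Perm8Base

/-!
# Computations with permutations of eight points
-/

set_option autoImplicit false

namespace Cfsg.Agent.EightLocal

open Equiv

set_option synthInstance.maxHeartbeats 200000
set_option synthInstance.maxSize 1024
set_option maxHeartbeats 0

/-- candidates for the auxiliary involutions -/
def sList : List (Perm (Fin 8)) :=
  [c[4, 5] * c[6, 7], c[4, 6] * c[5, 7], c[4, 7] * c[5, 6],
    c[0, 1] * c[4, 5], c[0, 1] * c[6, 7], c[0, 1] * c[4, 6], c[0, 1] * c[5, 7],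
    c[0, 1] * c[4, 7], c[0, 1] * c[5, 6],
    c[2, 3] * c[4, 5], c[2, 3] * c[6, 7], c[2, 3] * c[4, 6], c[2, 3] * c[5, 7],
    c[2, 3] * c[4, 7], c[2, 3] * c[5, 6]]

theorem sList_facts : ∀ c ∈ sList, Perm.sign c = 1 ∧ c * c = 1 ∧ c.support.card = 4 := by
  intro c hc
  simp only [sList, List.mem_cons, List.not_mem_nil, or_false] at hc
  rcases hc with rfl | rfl | rfl | rfl | rfl | rfl | rfl | rfl | rfl | rfl | rfl | rfl | rfl | rfl | rfl <;>
    decide +kernel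

theorem W_spec : ∀ p q : Perm (Fin 4), Perm.sign p * Perm.sign q = 1 →
    sum44 (p, q) * a0.1 = a0.1 * sum44 (p, q) → sum44 (p, q) * sum44 (p, q) = 1 →
    (sum44 (p, q)).support.card = 4 → (a0.1 * sum44 (p, q)).support.card = 4 →
    (b0.1 * sum44 (p, q) * b0.1 = sum44 (p, q) ∨ b0.1 * sum44 (p, q) * b0.1 = sum44 (p, q) * a0.1) →
    sum44 (p, q) = a0.1 ∨ sum44 (p, q) = b0.1 ∨ sum44 (p, q) = a0.1 * b0.1 ∨
      ∃ c ∈ sList, ∃ c' ∈ sList,
        (c * a0.1 = a0.1 * c ∧ c * sum44 (p, q) = sum44 (p, q) * c) ∧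
        (c' * a0.1 = a0.1 * c' ∧ c' * sum44 (p, q) = sum44 (p, q) * c') ∧
        (c ≠ a0.1 ∧ c ≠ sum44 (p, q) ∧ c ≠ a0.1 * sum44 (p, q)) ∧
        (c' ≠ a0.1 ∧ c' ≠ sum44 (p, q) ∧ c' ≠ a0.1 * sum44 (p, q)) ∧
        (c * c' = a0.1 ∨ c * c' = sum44 (p, q) ∨ c * c' = a0.1 * sum44 (p, q)) := by decide +kernel

theorem W_elt (w : A8) (ha : w * a0 = a0 * w) (hw : IsS w) (haw : IsS (a0 * w))
    (hb : b0 * w * b0 = w ∨ b0 * w * b0 = w * a0) :
    w = a0 ∨ w = b0 ∨ w = a0 * b0 ∨ ∃ c c' : A8, IsS c ∧ IsS c' ∧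
      (c * a0 = a0 * c ∧ c * w = w * c) ∧ (c' * a0 = a0 * c' ∧ c' * w = w * c') ∧
      (c ≠ a0 ∧ c ≠ w ∧ c ≠ a0 * w) ∧ (c' ≠ a0 ∧ c' ≠ w ∧ c' ≠ a0 * w) ∧
      (c * c' = a0 ∨ c * c' = w ∨ c * c' = a0 * w) := by
  obtain ⟨p, q, hpq⟩ := split w ha
  have hs : Perm.sign p * Perm.sign q = 1 := by
    rw [← sign_sum44, ← hpq]; exact Equiv.Perm.mem_alternatingGroup.1 w.2
  have h := W_spec p q hs
  rw [← hpq] at h
  rcases h (congrArg Subtype.val ha) (congrArg Subtype.val hw.1) hw.2 haw.2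
      (hb.imp (congrArg Subtype.val) (congrArg Subtype.val)) with h | h | h |
      ⟨c, hc, c', hc', ⟨x1, x2⟩, ⟨x3, x4⟩, ⟨x5, x6, x7⟩, ⟨x8, x9, x10⟩, h11⟩
  · exact Or.inl (Subtype.ext h)
  · exact Or.inr (Or.inl (Subtype.ext h))
  · exact Or.inr (Or.inr (Or.inl (Subtype.ext h)))
  · obtain ⟨s1, s2, s3⟩ := sList_facts c hc
    obtain ⟨s1', s2', s3'⟩ := sList_facts c' hc'
    refine Or.inr (Or.inr (Or.inr ⟨mk8 c s1, mk8 c' s1', ⟨Subtype.ext s2, s3⟩,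
      ⟨Subtype.ext s2', s3'⟩, ⟨Subtype.ext x1, Subtype.ext x2⟩, ⟨Subtype.ext x3, Subtype.ext x4⟩,
      ⟨?_, ?_, ?_⟩, ⟨?_, ?_, ?_⟩, ?_⟩))
    · exact fun e => x5 (congrArg Subtype.val e)
    · exact fun e => x6 (congrArg Subtype.val e)
    · exact fun e => x7 (congrArg Subtype.val e)
    · exact fun e => x8 (congrArg Subtype.val e)
    · exact fun e => x9 (congrArg Subtype.val e)
    · exact fun e => x10 (congrArg Subtype.val e)
    · exact h11.imp (fun e => Subtype.ext e) (fun e => e.imp (fun e => Subtype.ext e) (fun e => Subtype.ext e))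


end Cfsg.Agent.EightLocal
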