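import Mathlib
import Cfsg.Agent.Lib.EightLocal.CentT
import Cfsg.Agent.Lib.EightLocal.Perm8W
import Cfsg.Agent.Lib.ZStar.Main
import Cfsg.Agent.Lib.PCore.Basic

/-!
# The centraliser of a product of two transpositions
-/

set_option autoImplicit false

namespace Cfsg.Agent.EightLocal

universe u

/-- an auxiliary three-cycle -/
def c567 : A8 :=
  ⟨Equiv.swap 5 7 * Equiv.swap 6 7, Equiv.Perm.mem_alternatingGroup.2 (by decide +kernel)⟩

namespace Emb

variable {G : Type u} [Group G] [Finite G] (E : Emb G)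

/-- The centraliser of every fixed-point-free involution lies in the alternating subgroup. -/
theorem cent_t_le {p : A8} (h : ∃ g : A8, g * p * g⁻¹ = t0) {x : G}
    (hx : x * E.φ p = E.φ p * x) : x ∈ E.φ.range := by
  obtain ⟨g, hg⟩ := h
  refine E.conj_range g (E.centT_le (Subgroup.mem_centralizer_singleton_iff.2 ?_))
  rw [← hg, map_mul, map_mul, map_inv]
  exact ((show Commute x (E.φ p) from hx).map (MulAut.conj (E.φ g)).toMonoidHom).eq

theorem prod_t : (∃ g : A8, g * (a0 * a0') * g⁻¹ = t0) ∧ (∃ g : A8, g * (a0 * b0') * g⁻¹ = t0) ∧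
    (∃ g : A8, g * (a0 * (a0' * b0')) * g⁻¹ = t0) := by
  have h : (a0 * a0' = t0) ∧ c567 * (a0 * b0') * c567⁻¹ = t0 ∧
      c567⁻¹ * (a0 * (a0' * b0')) * (c567⁻¹)⁻¹ = t0 := by decide +kernel
  exact ⟨⟨1, by simpa using h.1⟩, ⟨_, h.2.1⟩, ⟨_, h.2.2⟩⟩

/-- Normal subgroups of odd order of the centraliser are trivial. -/
theorem odd_normal_eq_one (R : Subgroup G) (hRH : ∀ x ∈ R, x * E.φ a0 = E.φ a0 * x)
    (hodd : Odd (Nat.card R))
    (hnorm : ∀ g : G, g * E.φ a0 = E.φ a0 * g → ∀ x ∈ R, g * x * g⁻¹ ∈ R) :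
    ∀ x ∈ R, x = 1 := by
  classical
  haveI : Fact (Nat.Prime 2) := ⟨Nat.prime_two⟩
  set A : Subgroup A8 := Subgroup.closure {a0', b0'} with hA
  haveI : IsMulCommutative A := ⟨⟨fun x y => by
    have hc : ∀ p ∈ A, ∀ q ∈ A, Commute p q := by
      have hgen : ∀ p ∈ ({a0', b0'} : Set A8), ∀ q ∈ ({a0', b0'} : Set A8), Commute p q := by
        rintro p (rfl | rfl) q (rfl | rfl)
        · exact Commute.refl _
        · show a0' * b0' = b0' * a0'
          decide +kernel
        · show b0' * a0' = a0' * b0'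
          decide +kernel
        · exact Commute.refl _
      intro p hp q hq
      induction hq using Subgroup.closure_induction with
      | mem q hq =>
        induction hp using Subgroup.closure_induction with
        | mem p hp => exact hgen p hp q hq
        | one => exact Commute.one_left _
        | mul a b _ _ ha hb => exact ha.mul_left hb
        | inv a _ ha => exact ha.inv_left
      | one => exact Commute.one_right _
      | mul a b _ _ ha hb => exact ha.mul_right hb
      | inv a _ ha => exact ha.inv_right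
    exact Subtype.ext (hc _ x.2 _ y.2)⟩⟩
  have hAmem : ∀ p ∈ A, p = 1 ∨ p = a0' ∨ p = b0' ∨ p = a0' * b0' := by
    intro p hp
    induction hp using Subgroup.closure_induction with
    | mem p hp =>
      rcases hp with rfl | rfl
      · exact Or.inr (Or.inl rfl)
      · exact Or.inr (Or.inr (Or.inl rfl))
    | one => exact Or.inl rfl
    | mul a b _ _ ha hb =>
      rcases ha with rfl | rfl | rfl | rfl <;> rcases hb with rfl | rfl | rfl | rfl <;> decide +kernel
    | inv a _ ha =>
      rcases ha with rfl | rfl | rfl | rfl <;> decide +kernel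
  have hAcomm : ∀ p ∈ A, p * a0 = a0 * p := by
    intro p hp
    rcases hAmem p hp with rfl | rfl | rfl | rfl <;> decide +kernel
  set A' := A.map E.φ with hA'
  haveI : IsMulCommutative A' := ⟨⟨by
    rintro ⟨_, x, hx, rfl⟩ ⟨_, y, hy, rfl⟩
    refine Subtype.ext ?_
    show E.φ x * E.φ y = E.φ y * E.φ x
    rw [← map_mul, ← map_mul]
    exact congrArg E.φ (congrArg Subtype.val (mul_comm' (⟨x, hx⟩ : A) ⟨y, hy⟩))⟩⟩
  have hA4 : Nat.card A' = 4 := by
    have e : (A : Set A8) = (({1, a0', b0', a0' * b0'} : Finset A8) : Set A8) := by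
      ext p
      simp only [SetLike.mem_coe, Finset.coe_insert, Finset.coe_singleton, Set.mem_insert_iff,
        Set.mem_singleton_iff]
      refine ⟨hAmem p, ?_⟩
      rintro (rfl | rfl | rfl | rfl)
      · exact one_mem _
      · exact Subgroup.subset_closure (by simp)
      · exact Subgroup.subset_closure (by simp)
      · exact mul_mem (Subgroup.subset_closure (by simp)) (Subgroup.subset_closure (by simp))
    rw [hA', Subgroup.card_map_of_injective E.inj, show Nat.card A = Nat.card (A : Set A8) from rfl, e,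
      Nat.card_coe_set_eq, Set.ncard_coe_finset]
    decide +kernel
  have hncyc : ¬ IsCyclic A' := by
    intro h
    obtain ⟨v, hv⟩ := IsCyclic.exists_generator (α := A')
    have h4 : orderOf v = 4 := by rw [orderOf_eq_card_of_forall_mem_zpowers hv, hA4]
    have h2 : orderOf v ∣ 2 := by
      refine orderOf_dvd_of_pow_eq_one (Subtype.ext ?_)
      obtain ⟨p, hp, hpv⟩ := v.2
      rw [Subgroup.coe_pow, OneMemClass.coe_one, ← hpv, ← map_pow]
      rcases hAmem p hp with rfl | rfl | rfl | rfl <;>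
        (rw [show (_ : A8) ^ 2 = 1 by decide +kernel]; exact map_one _)
    rw [h4] at h2
    norm_num at h2
  have hcop : (Nat.card A').Coprime (Nat.card R) := by
    rw [hA4, show (4 : ℕ) = 2 ^ 2 by norm_num]
    exact (Nat.coprime_two_left.2 hodd).pow_left 2
  have hA'N : A' ≤ Subgroup.normalizer (R : Set G) := by
    rintro _ ⟨p, hp, rfl⟩
    exact mem_normalizer_of_conj_mem (hnorm _ (by rw [← map_mul, ← map_mul, hAcomm p hp]))
  have key : R ⊓ E.φ.range = R := Coprime.eq_of_forall_centralizer_le hncyc hA'N hcop inf_le_left (by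
    rintro _ ⟨p, hp, rfl⟩ hp1 x hx
    obtain ⟨hxR, hxC⟩ := Subgroup.mem_inf.1 hx
    refine ⟨hxR, E.cent_t_le (p := a0 * p) ?_ ?_⟩
    · rcases hAmem p hp with rfl | rfl | rfl | rfl
      · exact absurd (map_one _) hp1
      · exact prod_t.1
      · exact prod_t.2.1
      · exact prod_t.2.2
    · rw [map_mul]
      exact ((show Commute x (E.φ a0) from hRH x hxR).mul_right
        (Subgroup.mem_centralizer_singleton_iff.1 hxC)).eq)
  intro x hx
  obtain ⟨p, rfl⟩ := (key.symm.le.trans inf_le_right) hx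
  have hpa : p * a0 = a0 * p := E.inj (by rw [map_mul, map_mul]; exact hRH _ hx)
  obtain ⟨h12, hO⟩ := O_elt p hpa
  have hordR : ∀ y ∈ R, orderOf y ∣ Nat.card R := fun y hy => by
    rw [← Subgroup.orderOf_mk y hy]; exact orderOf_dvd_natCard _
  have h3 : p ^ 3 = 1 := by
    refine orderOf_dvd_iff_pow_eq_one.1 ?_
    have hd : orderOf p ∣ Nat.card R := orderOf_injective E.φ E.inj p ▸ hordR _ hx
    have hc : (orderOf p).Coprime 4 := by
      rw [show (4 : ℕ) = 2 ^ 2 by norm_num]
      exact ((Nat.coprime_two_left.2 hodd).coprime_dvd_right hd).symm.pow_right 2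
    exact hc.dvd_of_dvd_mul_left (show orderOf p ∣ 4 * 3 from orderOf_dvd_of_pow_eq_one h12)
  by_contra hne
  obtain ⟨v, hv, hc1, hc2⟩ := hO h3 (fun e => hne (by rw [e, map_one]))
  have hvA : v ∈ A ∧ v⁻¹ = v := by
    simp only [List.mem_cons, List.not_mem_nil, or_false] at hv
    rcases hv with rfl | rfl
    · exact ⟨Subgroup.subset_closure (by simp), by decide +kernel⟩
    · exact ⟨Subgroup.subset_closure (by simp), by decide +kernel⟩
  have hR : E.φ (p * v * p⁻¹ * v) ∈ R := by
    have hv' := hnorm (E.φ v) (by rw [← map_mul, ← map_mul, hAcomm v hvA.1]) _ (inv_mem hx)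
    have := mul_mem hx hv'
    rw [← map_inv, ← map_inv, hvA.2, ← map_mul, ← map_mul, ← map_mul] at this
    rwa [show p * v * p⁻¹ * v = p * (v * p⁻¹ * v) by group]
  refine hc1 (E.inj (Eq.trans ?_ (map_one _).symm))
  have h2 := Nat.dvd_gcd (orderOf_dvd_of_pow_eq_one (n := 2)
    (show E.φ (p * v * p⁻¹ * v) ^ 2 = 1 by rw [sq, ← map_mul, hc2, map_one])) (hordR _ hR)
  rw [(Nat.coprime_two_left.2 hodd).gcd_eq_one, Nat.dvd_one, orderOf_eq_one_iff] at h2
  exact h2

theorem mem_range_of_conj {w : G} (hws : w * E.φ a0 = E.φ a0 * w)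
    (hb : E.φ b0 * w * E.φ b0 = w * E.φ a0) (hww : w * w = 1) : w ∈ E.φ.range := by
  set s := E.φ a0 with hs
  set b := E.φ b0 with hb0
  set u := E.φ u1 with hu
  have hbb : b * b = 1 := by rw [hb0, ← map_mul, show b0 * b0 = 1 by decide +kernel, map_one]
  have hbs : b * s = s * b := by rw [hb0, hs, ← map_mul, ← map_mul, show b0 * a0 = a0 * b0 by decide +kernel]
  have hus : u * s = s * u := by rw [hu, hs, ← map_mul, ← map_mul, show u1 * a0 = a0 * u1 by decide +kernel]
  have hub : u * b = b * s * u := by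
    rw [hu, hb0, hs, ← map_mul, ← map_mul, ← map_mul, show u1 * b0 = b0 * a0 * u1 by decide +kernel]
  have hbw : b * w = w * b * s := by
    calc b * w = b * w * (b * b) := by rw [hbb, mul_one]
      _ = b * w * b * b := by group
      _ = w * s * b := by rw [hb]
      _ = w * b * s := by rw [mul_assoc, ← hbs, mul_assoc]
  have h1 : w * u * s = s * (w * u) := by
    rw [mul_assoc, hus, ← mul_assoc, hws, mul_assoc]
  have h2 : w * u * b = b * (w * u) := by
    calc w * u * b = w * (u * b) := by group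
      _ = w * (b * s * u) := by rw [hub]
      _ = w * b * s * u := by group
      _ = b * w * u := by rw [hbw]
      _ = b * (w * u) := by group
  have := mul_mem (E.mem_range_of_commute h1 h2) (inv_mem (E.mem_range u1))
  rwa [hu, mul_inv_cancel_right] at this

theorem conj_in_V {w0' : A8} {h : G} (hha : h * E.φ a0 = E.φ a0 * h)
    (hw : h * E.φ b0 * h⁻¹ = E.φ w0') (hb : b0 * w0' * b0 = w0' ∨ b0 * w0' * b0 = w0' * a0) :
    w0' = b0 ∨ w0' = a0 * b0 := by
  have pv := perm8_values
  have hab : h * E.φ (a0 * b0) * h⁻¹ = E.φ (a0 * w0') := by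
    rw [map_mul, map_mul, ← hw]
    calc h * (E.φ a0 * E.φ b0) * h⁻¹ = (h * E.φ a0) * E.φ b0 * h⁻¹ := by group
      _ = _ := by rw [hha]; group
  have haa : h * E.φ a0 * h⁻¹ = E.φ a0 := by rw [hha]; group
  have hS1 := E.isS_of_fused pv.2.2.2.2.1 hw
  have hS2 := E.isS_of_fused pv.2.2.2.2.2.1 hab
  have hwa : w0' * a0 = a0 * w0' := E.inj (by
    rw [map_mul, map_mul, ← hw]
    calc h * E.φ b0 * h⁻¹ * E.φ a0 = h * E.φ b0 * (h⁻¹ * E.φ a0) := by group
      _ = h * E.φ b0 * (E.φ a0 * h⁻¹) := by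
          rw [show h⁻¹ * E.φ a0 = E.φ a0 * h⁻¹ from ((show Commute h (E.φ a0) from hha).inv_left).eq]
      _ = h * E.φ (b0 * a0) * h⁻¹ := by rw [map_mul]; group
      _ = h * E.φ (a0 * b0) * h⁻¹ := by rw [show b0 * a0 = a0 * b0 by decide +kernel]
      _ = (h * E.φ a0) * E.φ b0 * h⁻¹ := by rw [map_mul]; group
      _ = _ := by rw [hha]; group)
  rcases W_elt w0' hwa hS1 hS2 hb with e | e | e | ⟨c, c', hc, hc', ⟨k1, k2⟩, ⟨k1', k2'⟩, hne, hne', hprod⟩
  · exfalso
    subst e
    have := E.inj (mul_left_cancel (mul_right_cancel (hw.trans haa.symm)))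
    revert this
    decide +kernel
  · exact Or.inl e
  · exact Or.inr e
  · exfalso
    have pull : ∀ c : A8, IsS c → c * a0 = a0 * c → c * w0' = w0' * c →
        (c ≠ a0 ∧ c ≠ w0' ∧ c ≠ a0 * w0') →
        ∃ p : A8, h⁻¹ * E.φ c * h = E.φ p ∧ p ∈ [a0', b0', a0' * b0'] := by
      intro c hc k1 k2 hne
      have key : ∀ v w' : A8, h * E.φ v * h⁻¹ = E.φ w' → c * w' = w' * c →
          h⁻¹ * E.φ c * h * E.φ v = E.φ v * (h⁻¹ * E.φ c * h) := by
        intro v w' e k
        calc h⁻¹ * E.φ c * h * E.φ v = h⁻¹ * (E.φ c * (h * E.φ v * h⁻¹)) * h := by group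
          _ = h⁻¹ * E.φ (c * w') * h := by rw [e, map_mul]
          _ = h⁻¹ * ((h * E.φ v * h⁻¹) * E.φ c) * h := by rw [k, map_mul, e]
          _ = _ := by group
      have g1' := key a0 a0 haa k1
      have g2' := key b0 w0' hw k2
      obtain ⟨p, hp⟩ := E.mem_range_of_commute g1' g2'
      rw [← hp, ← map_mul, ← map_mul] at g1' g2'
      have hpS : IsS p := E.isS_of_fused (h := h⁻¹) hc (by rw [inv_inv, hp])
      refine ⟨p, hp.symm, ?_⟩
      simp only [List.mem_cons, List.not_mem_nil, or_false]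
      have hback : E.φ c = h * E.φ p * h⁻¹ := by rw [hp]; group
      rcases (CV_elt p (E.inj g1') (E.inj g2')).2.2 hpS with e | e | e | e | e | e
      · exact absurd (E.inj (by rw [hback, e, haa])) hne.1
      · exact absurd (E.inj (by rw [hback, e, hw])) hne.2.1
      · exact absurd (E.inj (by rw [hback, e, hab])) hne.2.2
      · exact Or.inl e
      · exact Or.inr (Or.inl e)
      · exact Or.inr (Or.inr e)
    obtain ⟨p, hp, hpL⟩ := pull c hc k1 k2 hne
    obtain ⟨p', hp', hpL'⟩ := pull c' hc' k1' k2' hne'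
    obtain ⟨n1, n2, n3⟩ := V_product p hpL p' hpL'
    have hpp : h * E.φ (p * p') * h⁻¹ = E.φ (c * c') := by
      rw [map_mul, map_mul, ← hp, ← hp']; group
    have hcan : ∀ v : A8, h * E.φ v * h⁻¹ = E.φ (c * c') → p * p' = v := fun v hv =>
      E.inj (mul_left_cancel (mul_right_cancel (hpp.trans hv.symm)))
    rcases hprod with e | e | e
    · exact n1 (hcan a0 (by rw [e, haa]))
    · exact n2 (hcan b0 (by rw [e, hw]))
    · exact n3 (hcan (a0 * b0) (by rw [e, hab]))

theorem centS_le : Subgroup.centralizer ({E.φ a0} : Set G) ≤ E.φ.range := by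
  classical
  haveI : Fact (Nat.Prime 2) := ⟨Nat.prime_two⟩
  set s := E.φ a0 with hsdef
  set H := Subgroup.centralizer ({s} : Set G) with hH
  have hss : s * s = 1 := by rw [hsdef, ← map_mul, show a0 * a0 = 1 by decide +kernel, map_one]
  have hso : orderOf s = 2 := E.orderOf_two (by decide +kernel) (by decide +kernel)
  have hmem : ∀ {x : G}, x ∈ H ↔ x * s = s * x := Subgroup.mem_centralizer_singleton_iff
  set sH : H := ⟨s, hmem.2 rfl⟩ with hsH
  set Z := Subgroup.zpowers sH with hZ
  have hsc : sH ∈ Subgroup.center H := Subgroup.mem_center_iff.2 fun g => Subtype.ext (hmem.1 g.2)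
  haveI hZn : Z.Normal := ⟨fun n hn g => by
    obtain ⟨k, rfl⟩ := Subgroup.mem_zpowers_iff.1 hn
    have hc : g * sH ^ k = sH ^ k * g :=
      Subgroup.mem_center_iff.1 (Subgroup.zpow_mem _ hsc k) g
    rw [hc, mul_inv_cancel_right]
    exact Subgroup.zpow_mem _ (Subgroup.mem_zpowers _) k⟩
  have hZc : Nat.card Z = 2 := by rw [hZ, Nat.card_zpowers, hsH, Subgroup.orderOf_mk, hso]
  have hZval : ∀ c : H, c ∈ Z → (c : G) = 1 ∨ (c : G) = s := by
    intro c hc
    rw [hZ, mem_zpowers_iff_mem_range_orderOf, hsH, Subgroup.orderOf_mk, hso] at hc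
    simp only [Finset.mem_image, Finset.mem_range] at hc
    obtain ⟨i, hi, rfl⟩ := hc
    interval_cases i <;> simp
  set π := QuotientGroup.mk' Z with hπ
  have hπs : Function.Surjective π := QuotientGroup.mk'_surjective Z
  -- the odd core of the quotient is trivial
  have hcore : ∀ q ∈ pPrimeCore 2 (H ⧸ Z), q = 1 := by
    intro q hq
    set M := (pPrimeCore 2 (H ⧸ Z)).comap π with hM
    haveI : M.Normal := Subgroup.normal_comap π
    have hMc : Nat.card M = 2 * Nat.card (pPrimeCore 2 (H ⧸ Z)) := by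
      have h1 : M.index = (pPrimeCore 2 (H ⧸ Z)).index := Subgroup.index_comap_of_surjective _ hπs
      have h2 := Subgroup.card_mul_index M
      have h3 := Subgroup.card_mul_index (pPrimeCore 2 (H ⧸ Z))
      have h4 := Subgroup.card_eq_card_quotient_mul_card_subgroup Z
      have hpos : 0 < (pPrimeCore 2 (H ⧸ Z)).index := Nat.pos_of_ne_zero Subgroup.index_ne_zero_of_finite
      rw [h4, hZc, h1, ← h3] at h2
      nlinarith
    have hoddC : Odd (Nat.card (pPrimeCore 2 (H ⧸ Z))) := PCore.odd_card_oddCore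
    have hZM : Z ≤ M := fun z hz => by
      rw [hM, Subgroup.mem_comap, show π z = 1 from (QuotientGroup.eq_one_iff z).2 hz]
      exact one_mem _
    set Z' := Z.subgroupOf M with hZ'
    have hZ'c : Nat.card Z' = 2 := by
      rw [hZ', Nat.card_congr (Subgroup.subgroupOfEquivOfLe hZM).toEquiv, hZc]
    have hZ'i : Z'.index = Nat.card (pPrimeCore 2 (H ⧸ Z)) := by
      have := Subgroup.card_mul_index Z'
      rw [hZ'c, hMc] at this
      omega
    haveI : Z'.Normal := Subgroup.normal_subgroupOf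
    obtain ⟨K, hK⟩ := Subgroup.exists_right_complement'_of_coprime (N := Z')
      (by rw [hZ'c, hZ'i]; exact Nat.coprime_two_left.2 hoddC)
    have hKi : K.index = 2 := by rw [hK.index_eq_card, hZ'c]
    have hKc : Nat.card K = Nat.card (pPrimeCore 2 (H ⧸ Z)) := by
      have := Subgroup.card_mul_index K
      rw [hKi, hMc] at this
      omega
    haveI hKn : K.Normal := Subgroup.normal_of_index_eq_two hKi
    have hoddmem : ∀ m : M, Odd (orderOf m) → m ∈ K := fun m hm => by
      rw [← QuotientGroup.eq_one_iff, ← orderOf_eq_one_iff]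
      have h1 : orderOf (QuotientGroup.mk (s := K) m) ∣ 2 := by
        refine (orderOf_dvd_natCard _).trans (dvd_of_eq ?_)
        rw [← Subgroup.index_eq_card, hKi]
      have h2 : orderOf (QuotientGroup.mk (s := K) m) ∣ orderOf m := orderOf_map_dvd (QuotientGroup.mk' K) m
      have h3 := Nat.dvd_gcd h1 h2
      rw [(Nat.coprime_two_left.2 hm).gcd_eq_one, Nat.dvd_one] at h3
      exact h3
    have hKodd : ∀ m ∈ K, Odd (orderOf m) := fun m hm => by
      refine (hKc ▸ hoddC).of_dvd_nat ?_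
      rw [← Subgroup.orderOf_mk m hm]
      exact orderOf_dvd_natCard _
    set R := (K.map M.subtype).map H.subtype with hR
    have hRone := E.odd_normal_eq_one R
      (by rintro _ ⟨y, -, rfl⟩; exact hmem.1 y.2)
      (by rw [hR, Subgroup.card_map_of_injective H.subtype_injective,
            Subgroup.card_map_of_injective M.subtype_injective, hKc]; exact hoddC)
      (by
        rintro g hg _ ⟨_, ⟨m, hm, rfl⟩, rfl⟩
        have hm' : (⟨g, hmem.2 hg⟩ : H) * m * (⟨g, hmem.2 hg⟩ : H)⁻¹ ∈ M :=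
          Subgroup.Normal.conj_mem inferInstance _ m.2 _
        refine ⟨_, ⟨⟨_, hm'⟩, hoddmem _ ?_, rfl⟩, rfl⟩
        rw [← Subgroup.orderOf_coe]
        show Odd (orderOf (MulAut.conj (⟨g, hmem.2 hg⟩ : H) (m : H)))
        rw [MulEquiv.orderOf_eq, Subgroup.orderOf_coe]
        exact hKodd m hm)
    have hK1 : Nat.card K = 1 := by
      rw [Subgroup.card_eq_one, Subgroup.eq_bot_iff_forall]
      intro m hm
      exact Subtype.ext (Subtype.ext (hRone _ ⟨_, ⟨m, hm, rfl⟩, rfl⟩))
    have hC1 : Nat.card (pPrimeCore 2 (H ⧸ Z)) = 1 := by rw [← hKc, hK1]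
    rw [Subgroup.card_eq_one] at hC1
    rwa [hC1, Subgroup.mem_bot] at hq
  -- the image of `b` is isolated
  set bH : H := ⟨E.φ b0, hmem.2 (by rw [hsdef, ← map_mul, ← map_mul, show b0 * a0 = a0 * b0 by decide +kernel])⟩ with hbH
  set v := π bH with hv
  have hconjZ : ∀ (g : H), π g * v * (π g)⁻¹ = v → g.1 ∈ E.φ.range := by
    intro g hg
    have hc : g * bH * g⁻¹ * bH⁻¹ ∈ Z := by
      rw [← QuotientGroup.eq_one_iff]
      show π (g * bH * g⁻¹ * bH⁻¹) = 1
      rw [map_mul, map_mul, map_mul, map_inv, map_inv, ← hv, hg, mul_inv_cancel]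
    rcases hZval _ hc with e | e
    · have e' : g.1 * E.φ b0 * (g.1)⁻¹ * (E.φ b0)⁻¹ = 1 := e
      rw [mul_inv_eq_one] at e'
      exact E.mem_range_of_commute (hmem.1 g.2) (mul_inv_eq_iff_eq_mul.1 e')
    · have e' : g.1 * E.φ b0 * (g.1)⁻¹ = s * E.φ b0 := mul_inv_eq_iff_eq_mul.1 e
      have h1 : E.φ u1 * g.1 * E.φ a0 = E.φ a0 * (E.φ u1 * g.1) := by
        rw [mul_assoc, hmem.1 g.2, ← mul_assoc, hsdef, ← map_mul, show u1 * a0 = a0 * u1 by decide +kernel,
          map_mul, mul_assoc]
      have h2 : E.φ u1 * g.1 * E.φ b0 = E.φ b0 * (E.φ u1 * g.1) := by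
        calc E.φ u1 * g.1 * E.φ b0 = E.φ u1 * (g.1 * E.φ b0 * (g.1)⁻¹) * g.1 := by group
          _ = E.φ u1 * (s * E.φ b0) * g.1 := by rw [e']
          _ = E.φ (u1 * (a0 * b0)) * g.1 := by rw [hsdef, map_mul, map_mul]
          _ = E.φ (b0 * u1) * g.1 := by rw [show u1 * (a0 * b0) = b0 * u1 by decide +kernel]
          _ = _ := by rw [map_mul, mul_assoc]
      have := mul_mem (inv_mem (E.mem_range u1)) (E.mem_range_of_commute h1 h2)
      rwa [inv_mul_cancel_left] at this
  have hiso : IsIsolatedInvolution v := by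
    refine ⟨orderOf_eq_prime ?_ ?_, ?_⟩
    · rw [hv, ← map_pow, show bH ^ 2 = 1 from Subtype.ext (by
        show E.φ b0 ^ 2 = 1
        rw [← map_pow, show b0 ^ 2 = 1 by decide +kernel, map_one]), map_one]
    · intro h
      rcases hZval _ ((QuotientGroup.eq_one_iff bH).1 h) with e | e
      · exact E.map_ne_one (by decide +kernel) e
      · exact (by decide +kernel : b0 ≠ a0) (E.inj e)
    · intro q hq
      obtain ⟨g, rfl⟩ := hπs q
      set W : H := g * bH * g⁻¹ with hW
      have hWπ : π g * v * (π g)⁻¹ = π W := by rw [hW, map_mul, map_mul, map_inv, ← hv]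
      rw [hWπ] at hq ⊢
      have hbb : bH * bH = 1 := Subtype.ext (by
        show E.φ b0 * E.φ b0 = 1
        rw [← map_mul, show b0 * b0 = 1 by decide +kernel, map_one])
      have hc : W⁻¹ * (bH * W * bH) ∈ Z := by
        rw [← QuotientGroup.eq_one_iff]
        show π (W⁻¹ * (bH * W * bH)) = 1
        rw [map_mul, map_mul, map_mul, map_inv, ← hv, hq.eq, mul_assoc (π W) v v, hv, ← map_mul, hbb,
          map_one, mul_one, inv_mul_cancel]
      have hWs : W.1 * s = s * W.1 := hmem.1 W.2
      have hWW : W.1 * W.1 = 1 := by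
        show g.1 * E.φ b0 * (g.1)⁻¹ * (g.1 * E.φ b0 * (g.1)⁻¹) = 1
        rw [show g.1 * E.φ b0 * (g.1)⁻¹ * (g.1 * E.φ b0 * (g.1)⁻¹) = g.1 * (E.φ b0 * E.φ b0) * (g.1)⁻¹ by group,
          ← map_mul, show b0 * b0 = 1 by decide +kernel, map_one]
        group
      have hcases : E.φ b0 * W.1 * E.φ b0 = W.1 ∨ E.φ b0 * W.1 * E.φ b0 = W.1 * s := by
        rcases hZval _ hc with e | e
        · have e' : (W.1)⁻¹ * (E.φ b0 * W.1 * E.φ b0) = 1 := e
          exact Or.inl ((inv_mul_eq_one.1 e').symm)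
        · have e' : (W.1)⁻¹ * (E.φ b0 * W.1 * E.φ b0) = s := e
          exact Or.inr (inv_mul_eq_iff_eq_mul.1 e')
      have hWr : W.1 ∈ E.φ.range := by
        rcases hcases with h | h
        · refine E.mem_range_of_commute hWs ?_
          calc W.1 * E.φ b0 = E.φ b0 * W.1 * E.φ b0 * E.φ b0 := by rw [h]
            _ = E.φ b0 * W.1 * (E.φ b0 * E.φ b0) := by group
            _ = _ := by rw [← map_mul, show b0 * b0 = 1 by decide +kernel, map_one, mul_one]
        · exact E.mem_range_of_conj hWs h hWW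
      obtain ⟨w', hw'⟩ := hWr
      have hb' : b0 * w' * b0 = w' ∨ b0 * w' * b0 = w' * a0 := by
        refine hcases.imp (fun h => E.inj ?_) (fun h => E.inj ?_)
        · rw [map_mul, map_mul, hw']; exact h
        · rw [map_mul, map_mul, map_mul, hw']; exact h
      rcases E.conj_in_V (hmem.1 g.2) (w0' := w') (by rw [hw']; rfl) hb' with e | e
      · rw [e] at hw'
        rw [hv]
        exact congrArg π (Subtype.ext hw'.symm)
      · rw [e, map_mul] at hw'
        have : W = sH * bH := Subtype.ext hw'.symm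
        rw [this, map_mul, show π sH = 1 from (QuotientGroup.eq_one_iff sH).2 (Subgroup.mem_zpowers sH), one_mul]
  intro x hx
  refine hconjZ ⟨x, hx⟩ ?_
  have h := hcore _ (ZStar.inZStar hiso (π ⟨x, hx⟩))
  exact mul_inv_eq_one.1 h

end Emb

end Cfsg.Agent.EightLocal
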