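import Mathlib
import Cfsg.Agent.Lib.EightLocal.CentS
import Cfsg.Agent.Lib.Invol.Basic

/-!
# The alternating subgroup is the whole group
-/

set_option autoImplicit false

namespace Cfsg.Agent.EightLocal

universe u

namespace Emb

variable {G : Type u} [Group G] [Finite G] (E : Emb G)

theorem centralizer_involution_le {i : G} (hi : i ∈ E.φ.range) (hii : i * i = 1) (hi1 : i ≠ 1)
    {x : G} (hx : x * i = i * x) : x ∈ E.φ.range := by
  obtain ⟨p, rfl⟩ := hi
  have hp2 : p * p = 1 := E.inj (by rw [map_mul, hii, map_one])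
  have hp1 : p ≠ 1 := fun e => hi1 (by rw [e, map_one])
  obtain ⟨g, hg | hg⟩ := two_classes hp2 hp1
  · refine E.conj_range g (E.centS_le (Subgroup.mem_centralizer_singleton_iff.2 ?_))
    rw [← hg, map_mul, map_mul, map_inv]
    exact ((show Commute x (E.φ p) from hx).map (MulAut.conj (E.φ g)).toMonoidHom).eq
  · exact E.cent_t_le ⟨g, hg⟩ hx

theorem range_eq_top : E.φ.range = ⊤ := by
  haveI : Fact (Nat.Prime 3) := ⟨Nat.prime_three⟩
  set N := Subgroup.normalClosure ({E.φ t0} : Set G) with hN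
  have hs : orderOf (E.φ a0) = 2 := E.orderOf_two (by decide +kernel) (by decide +kernel)
  have hNle : N ≤ E.φ.range := by
    rw [hN, Subgroup.normalClosure, Subgroup.closure_le]
    intro x hx
    obtain ⟨y, rfl, hyx⟩ : ∃ y, y = E.φ t0 ∧ IsConj y x := by
      obtain ⟨y, hy, hyx⟩ := Group.mem_conjugatesOfSet_iff.1 hx
      exact ⟨y, hy, hyx⟩
    obtain ⟨c, hc⟩ := isConj_iff.1 hyx
    have hxo : orderOf x = 2 := by
      rw [← hc, ← MulAut.conj_apply, MulEquiv.orderOf_eq]
      exact E.orderOf_two (by decide +kernel) (by decide +kernel)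
    have hnc : ¬ IsConj (E.φ a0) x := by
      intro h
      obtain ⟨d, hd⟩ := isConj_iff.1 h
      refine E.not_fused (c⁻¹ * d) ?_
      calc c⁻¹ * d * E.φ a0 * (c⁻¹ * d)⁻¹ = c⁻¹ * (d * E.φ a0 * d⁻¹) * c := by group
        _ = E.φ t0 := by rw [hd, ← hc]; group
    obtain ⟨i, hio, his, hix⟩ := Invol.exists_common_commuting hs hxo hnc
    have hii : i * i = 1 := by
      have h := pow_orderOf_eq_one i
      rwa [hio, sq] at h
    have hi1 : i ≠ 1 := fun e => by rw [e, orderOf_one] at hio; omega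
    have hir : i ∈ E.φ.range :=
      E.centS_le (Subgroup.mem_centralizer_singleton_iff.2 his.eq)
    exact E.centralizer_involution_le hir hii hi1 hix.symm.eq
  haveI hNn : N.Normal := Subgroup.normalClosure_normal
  have hge : E.φ.range ≤ N := by
    haveI : (N.comap E.φ).Normal := hNn.comap E.φ
    rcases isSimpleGroup_A8.eq_bot_or_eq_top_of_normal (N.comap E.φ) inferInstance with h | h
    · exfalso
      have ht : t0 ∈ N.comap E.φ := Subgroup.subset_normalClosure (Set.mem_singleton _)
      rw [h, Subgroup.mem_bot] at ht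
      revert ht
      decide +kernel
    · rintro _ ⟨p, rfl⟩
      exact Subgroup.mem_comap.1 (h ▸ Subgroup.mem_top p)
  have heq : N = E.φ.range := le_antisymm hNle hge
  have hPN : (E.P : Subgroup G) ≤ N := by
    rw [← E.hDP, heq]
    intro a ha
    obtain ⟨i, k, rfl⟩ := (E.mem_D a).1 ha
    exact E.mem_range _
  have htop := Sylow.normalizer_sup_eq_top (E.P.subtype hPN)
  rw [Sylow.coe_subtype, Subgroup.subgroupOf_map_subtype, inf_eq_left.2 hPN, ← E.hDP] at htop
  rw [eq_top_iff, ← htop, ← heq]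
  exact sup_le (E.normalizer_D.trans heq.symm.le) le_rfl

theorem nonempty_mulEquiv (E : Emb G) : Nonempty (G ≃* alternatingGroup (Fin 8)) :=
  ⟨(MulEquiv.ofBijective E.φ ⟨E.inj, MonoidHom.range_eq_top.1 E.range_eq_top⟩).symm⟩

end Emb

end Cfsg.Agent.EightLocal
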